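import Groth.Agent.PLieLib.Exist

set_option autoImplicit false

/-! Criterion for the existence of a `p`-map on a Lie algebra free as a module. -/

noncomputable section

namespace PLieLib

open PLie

universe u v w

variable {R : Type u} [CommRing R] {p : ℕ} [CharP R p] [Fact p.Prime] {L : Type v} [LieRing L] [LieAlgebra R L]
  {ι : Type w} (b : Module.Basis ι R L)

theorem nonempty_pmap_iff :
    Nonempty (PMap R p L) ↔ ∀ i, ∃ w : L, ∀ j, (LieAlgebra.ad R L (b i) ^ p) (b j) = ⁅w, b j⁆ := by
  constructor
  · rintro ⟨φ⟩ i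
    exact ⟨φ (b i), fun j => (lie_pmap φ (b i) (b j)).symm⟩
  · intro h
    choose y hy using h
    obtain ⟨φ, -⟩ := exists_pmap b y fun i => b.ext fun j => hy i j
    exact ⟨φ⟩

end PLieLib
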