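import Groth.Agent.PLieLib.Jacobson
import Groth.Agent.PBWLib.Basis

set_option autoImplicit false

/-!
Jacobson's theorem: for a Lie algebra free as a module, `p`-maps are the same as choices of
`p`-th powers of the basis vectors compatible with the adjoint representation.
-/

noncomputable section

namespace PLieLib

open PLie

universe u v w

attribute [local instance 100] LieRing.ofAssociativeRing

variable {R : Type u} [CommRing R] {p : ℕ} [CharP R p] {L : Type v} [LieRing L] [LieAlgebra R L]

theorem PMap.ext' {φ ψ : PMap R p L} (h : ∀ x, φ x = ψ x) : φ = ψ := by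
  cases φ; cases ψ; congr; exact funext h

theorem pmap_zero [Fact p.Prime] (φ : PMap R p L) : φ (0 : L) = 0 := by
  have := φ.map_smul 0 0
  rw [zero_smul, zero_pow (Fact.out : p.Prime).ne_zero, zero_smul] at this
  exact this

/-- `⁅φ x, y⁆ = (ad x)ᵖ y`. -/
theorem lie_pmap (φ : PMap R p L) (x y : L) : ⁅φ x, y⁆ = (LieAlgebra.ad R L x ^ p) y := by
  rw [← φ.ad_map]; rfl

variable [Fact p.Prime] {ι : Type w} (b : Module.Basis ι R L)

theorem pmap_unique {φ ψ : PMap R p L} (h : ∀ i, φ (b i) = ψ (b i)) : φ = ψ := by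
  refine PMap.ext' fun x => ?_
  induction b.mem_span x using Submodule.span_induction with
  | mem x hx => obtain ⟨i, rfl⟩ := hx; exact h i
  | zero => rw [pmap_zero, pmap_zero]
  | add x y _ _ hx hy => rw [φ.map_add, ψ.map_add, hx, hy]
  | smul c x _ hx => rw [φ.map_smul, ψ.map_smul, hx]

theorem ι_injective {ι : Type w} (b : Module.Basis ι R L) :
    Function.Injective (UniversalEnvelopingAlgebra.ι R : L → UniversalEnvelopingAlgebra R L) := by
  classical
  letI : LinearOrder ι := linearOrderOfSTO WellOrderingRel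
  let f : L →ₗ[R] UniversalEnvelopingAlgebra R L := (UniversalEnvelopingAlgebra.ι R).toLinearMap
  have h : (fun i => f (b i)) = (PBWLib.pbwBasis b) ∘ fun i : ι => ({i} : Multiset ι) := by
    funext i
    simp [f, PBWLib.word]
  refine (LinearMap.ker_eq_bot (f := f)).1 (LinearMap.ker_eq_bot'.2 fun x hx => ?_)
  have hli : LinearIndependent R (fun i => f (b i)) := by
    rw [h]
    exact (PBWLib.pbwBasis b).linearIndependent.comp _ fun _ _ h => Multiset.singleton_inj.1 h
  rw [← b.linearCombination_repr x] at hx ⊢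
  rw [Finsupp.apply_linearCombination] at hx
  have hx' : Finsupp.linearCombination R (fun i => f (b i)) (b.repr x) = 0 := hx
  rw [linearIndependent_iff.1 hli _ hx', map_zero]

theorem exists_pmap (y : ι → L) (hy : ∀ i, LieAlgebra.ad R L (b i) ^ p = LieAlgebra.ad R L (y i)) :
    ∃ φ : PMap R p L, ∀ i, φ (b i) = y i := by
  classical
  have hp : p.Prime := Fact.out
  haveI : ExpChar R p := .prime hp
  let ε : L →ₗ⁅R⁆ UniversalEnvelopingAlgebra R L := UniversalEnvelopingAlgebra.ι R
  have hinj : Function.Injective ε := ι_injective b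
  -- conjugation of powers of `ad`
  have hpow : ∀ (x : L) (n : ℕ) (z : L),
      (LieAlgebra.ad R (UniversalEnvelopingAlgebra R L) (ε x) ^ n) (ε z) =
        ε ((LieAlgebra.ad R L x ^ n) z) := by
    intro x n
    induction n with
    | zero => intro z; rfl
    | succ n ih => intro z; rw [pow_succ', pow_succ', Module.End.mul_apply, Module.End.mul_apply, ih]; exact (ε.map_lie _ _).symm
  -- the semilinear central part
  let zc : ι → UniversalEnvelopingAlgebra R L := fun i => ε (b i) ^ p - ε (y i)
  have hzc : ∀ i z, ⁅zc i, ε z⁆ = 0 := by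
    intro i z
    simp only [zc, sub_lie]
    rw [← LieAlgebra.ad_apply R, ← ad_pow_char, hpow, hy i, LieAlgebra.ad_apply, LieHom.map_lie, sub_self]
  let Z : L → UniversalEnvelopingAlgebra R L := fun x =>
    (b.repr x).sum fun i c => c ^ p • zc i
  have hZadd : ∀ x x', Z (x + x') = Z x + Z x' := by
    intro x x'
    simp only [Z, map_add]
    exact Finsupp.sum_add_index' (fun i => by rw [zero_pow hp.ne_zero, zero_smul])
      (fun i c c' => by rw [add_pow_char_of_commute _ (Commute.all c c'), add_smul])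
  have hZsmul : ∀ (c : R) x, Z (c • x) = c ^ p • Z x := by
    intro c x
    simp only [Z, map_smul]
    rw [Finsupp.sum_smul_index' (fun i => by rw [zero_pow hp.ne_zero, zero_smul]), Finsupp.smul_sum]
    simp only [smul_eq_mul, mul_pow, mul_smul]
  have hZb : ∀ i, Z (b i) = zc i := fun i => by
    simp [Z, Finsupp.sum_single_index, hp.ne_zero]
  have hZlie : ∀ x z, ⁅Z x, ε z⁆ = 0 := by
    intro x z
    simp only [Z, Finsupp.sum, sum_lie, smul_lie, hzc, smul_zero, Finset.sum_const_zero]
  have hex : ∀ x, ∃ w, ε w = ε x ^ p - Z x := by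
    intro x
    induction b.mem_span x using Submodule.span_induction with
    | mem x hx => obtain ⟨i, rfl⟩ := hx; exact ⟨y i, by rw [hZb]; simp [zc]⟩
    | zero =>
      refine ⟨0, ?_⟩
      have h0 : Z 0 = 0 := by simp [Z]
      rw [map_zero, h0, zero_pow hp.ne_zero, sub_zero]
    | add u v _ _ hu hv =>
      obtain ⟨u', hu'⟩ := hu
      obtain ⟨v', hv'⟩ := hv
      refine ⟨u' + v' - jacobson R p u v, ?_⟩
      rw [map_sub, map_add, map_jacobson, hu', hv', map_add, add_pow_prime (R := R), hZadd]
      abel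
    | smul c u _ hu =>
      obtain ⟨u', hu'⟩ := hu
      exact ⟨c ^ p • u', by rw [map_smul, hu', map_smul, smul_pow, hZsmul, smul_sub]⟩
  choose F hF using hex
  refine ⟨⟨F, fun c x => hinj ?_, fun x => LinearMap.ext fun z => hinj ?_, fun x x' => hinj ?_⟩, fun i => hinj ?_⟩
  · rw [map_smul, hF, hF, map_smul, smul_pow, hZsmul, smul_sub]
  · rw [LieAlgebra.ad_apply, LieHom.map_lie, hF, sub_lie, hZlie, sub_zero, ← hpow, ad_pow_char, LieAlgebra.ad_apply]
  · rw [map_sub, map_add, map_jacobson, hF, hF, hF, map_add, add_pow_prime (R := R), hZadd]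
    abel
  · show ε (F (b i)) = ε (y i)
    rw [hF, hZb]
    simp [zc]

theorem existsUnique_pmap (y : ι → L) (hy : ∀ i, LieAlgebra.ad R L (b i) ^ p = LieAlgebra.ad R L (y i)) :
    ∃! φ : PMap R p L, ∀ i, φ (b i) = y i := by
  obtain ⟨φ, hφ⟩ := exists_pmap b y hy
  exact ⟨φ, hφ, fun ψ hψ => pmap_unique b fun i => (hψ i).trans (hφ i).symm⟩

theorem ad_pow_eq_zero_of_sq {x : L} (h : ∀ z : L, ⁅x, ⁅x, z⁆⁆ = 0) : LieAlgebra.ad R L x ^ p = 0 := by
  obtain ⟨n, hn⟩ := Nat.exists_eq_add_of_le (Fact.out : p.Prime).two_le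
  rw [hn, pow_add, pow_two]
  exact LinearMap.ext fun z => h _

end PLieLib
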