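import Groth.Prelude.Def_PLie
import Mathlib

set_option autoImplicit false

/-!
Jacobson's formula in an associative algebra of characteristic `p`, and formal properties of
Jacobson's sum.
-/

noncomputable section

namespace PLieLib

open Polynomial PLie

universe u v w

variable {R : Type u} [CommRing R] {p : ℕ}

section Formal

variable {L : Type v} [LieRing L] [LieAlgebra R L] {L' : Type w} [LieRing L'] [LieAlgebra R L']

theorem map_bracketWord (f : L →ₗ⁅R⁆ L') {ι : Type*} (x : ι → L) (a : L) (l : List ι) :
    f (bracketWord x a l) = bracketWord (fun i => f (x i)) (f a) l := by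
  induction l with
  | nil => rfl
  | cons i l ih => simp [ih]

theorem map_jacobson [CharP R p] (f : L →ₗ⁅R⁆ L') (a b : L) :
    f (jacobson R p a b) = jacobson R p (f a) (f b) := by
  unfold jacobson
  rw [map_sum]
  refine Finset.sum_congr rfl fun t _ => ?_
  rw [map_smul, map_bracketWord]
  congr 2
  funext i
  cases i <;> rfl

theorem bracketWord_zero {ι : Type*} (x : ι → L) (l : List ι) : bracketWord x (0 : L) l = 0 := by
  induction l with
  | nil => rfl
  | cons i l ih => simp [ih]

theorem jacobson_zero_right [CharP R p] (a : L) : jacobson R p a (0 : L) = 0 :=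
  Finset.sum_eq_zero fun _ _ => by rw [bracketWord_zero, smul_zero]

theorem bracketWord_mem (I : LieIdeal R L) {ι : Type*} (x : ι → L) {a : L} (ha : a ∈ I) (l : List ι) :
    bracketWord x a l ∈ I := by
  induction l with
  | nil => exact ha
  | cons i l ih => exact lie_mem_right _ _ I _ _ ih

theorem jacobson_mem [CharP R p] (I : LieIdeal R L) (a : L) {b : L} (hb : b ∈ I) : jacobson R p a b ∈ I :=
  sum_mem fun _ _ => Submodule.smul_mem I.toSubmodule _ (bracketWord_mem I _ hb _)

end Formal

section Assoc

variable {A : Type v} [Ring A] [Algebra R A]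

attribute [local instance] LieRing.ofAssociativeRing

theorem natCast_p_eq_zero (R : Type u) [CommRing R] [CharP R p] (A : Type v) [Ring A] [Algebra R A] :
    (p : A) = 0 := by
  rw [← map_natCast (algebraMap R A) p, CharP.cast_eq_zero, map_zero]

theorem sub_pow_prime {S : Type*} [Ring S] (hp : p.Prime) (hS : (p : S) = 0) {a b : S} (h : Commute a b) :
    (a - b) ^ p = a ^ p - b ^ p := by
  obtain ⟨r, hr⟩ := h.sub_left (Commute.refl b) |>.exists_add_pow_prime_eq hp
  rw [sub_add_cancel, hS, zero_mul, zero_mul, zero_mul, add_zero] at hr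
  exact eq_sub_of_add_eq hr.symm

/-- `(ad x)ᵖ = ad xᵖ` in an associative algebra of characteristic `p`. -/
theorem ad_pow_char [hp : Fact p.Prime] [CharP R p] (x : A) :
    LieAlgebra.ad R A x ^ p = LieAlgebra.ad R A (x ^ p) := by
  rw [LieAlgebra.ad_eq_lmul_left_sub_lmul_right]
  simp only [Pi.sub_apply]
  rw [sub_pow_prime hp.out (natCast_p_eq_zero R _) (LinearMap.commute_mulLeft_right _ _),
    LinearMap.pow_mulLeft, LinearMap.pow_mulRight]

theorem choose_prime_sub_one [Fact p.Prime] : ∀ m, m < p →
    ((p - 1).choose m : ZMod p) = (-1) ^ m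
  | 0, _ => by simp
  | m + 1, h => by
    have hp : p.Prime := Fact.out
    have hd : p ∣ p.choose (m + 1) := hp.dvd_choose_self (Nat.succ_ne_zero m) h
    rw [← Nat.sub_add_cancel hp.one_le, Nat.choose_succ_succ, Nat.sub_add_cancel hp.one_le] at hd
    have := (ZMod.natCast_eq_zero_iff _ p).2 hd
    rw [Nat.cast_add, choose_prime_sub_one m (Nat.lt_of_succ_lt h)] at this
    rw [eq_neg_of_add_eq_zero_right this, pow_succ, mul_neg_one]

theorem sub_pow_pred {S : Type*} [Ring S] [Fact p.Prime] (hS : (p : S) = 0) {a b : S} (h : Commute a b) :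
    (a - b) ^ (p - 1) = ∑ m ∈ Finset.range p, a ^ m * b ^ (p - 1 - m) := by
  have hp : p.Prime := Fact.out
  rw [sub_eq_add_neg, h.neg_right.add_pow, Nat.sub_add_cancel hp.one_le]
  refine Finset.sum_congr rfl fun m hm => ?_
  have hm' := Finset.mem_range.1 hm
  rw [neg_pow, mul_assoc, mul_assoc]
  congr 1
  have hc : (((p - 1).choose m : ℕ) : S) = (-1) ^ (p - 1 - m) := by
    have hz : (((p - 1).choose m : ℤ) : ZMod p) = (((-1) ^ (p - 1 - m) : ℤ) : ZMod p) := by
      push_cast
      rw [← Nat.choose_symm (by omega : m ≤ p - 1), choose_prime_sub_one _ (by omega)]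
    obtain ⟨r, hr⟩ := (ZMod.intCast_eq_intCast_iff_dvd_sub _ _ p).1 hz
    have := congrArg (Int.cast : ℤ → S) hr
    push_cast at this
    rw [hS, zero_mul, sub_eq_zero] at this
    exact this.symm
  rw [hc, ← (Commute.neg_one_left (b ^ (p - 1 - m))).pow_left _ |>.eq, ← mul_assoc, ← pow_add,
    Even.neg_one_pow ⟨_, rfl⟩, one_mul]

theorem derivative_pow_sum (f : A[X]) : ∀ n : ℕ, derivative (f ^ n) =
    ∑ m ∈ Finset.range n, f ^ m * derivative f * f ^ (n - 1 - m)
  | 0 => by simp
  | n + 1 => by
    rw [pow_succ, derivative_mul, derivative_pow_sum f n, Finset.sum_range_succ, Finset.sum_mul]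
    simp only [Nat.add_sub_cancel, Nat.sub_self, pow_zero, mul_one]
    congr 1
    refine Finset.sum_congr rfl fun m hm => ?_
    have := Finset.mem_range.1 hm
    rw [mul_assoc, ← pow_succ]
    congr 2
    omega

theorem iterate_ad_expand (a b : A) : ∀ n : ℕ,
    (fun y : A[X] => (C a + C b * X) * y - y * (C a + C b * X))^[n] (C b) =
      ∑ t : Fin n → Bool, C (bracketWord (pair a b) b (List.ofFn t)) *
        X ^ (Fintype.card {i // t i = true})
  | 0 => by simp
  | n + 1 => by
    rw [Function.iterate_succ_apply', iterate_ad_expand a b n, Finset.mul_sum, Finset.sum_mul,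
      ← Finset.sum_sub_distrib]
    rw [← (Fin.consEquiv (fun _ => Bool)).sum_comp, Fintype.sum_prod_type, Fintype.sum_bool, ← Finset.sum_add_distrib]
    refine Finset.sum_congr rfl fun t _ => ?_
    have hc : ∀ c : Bool, Fintype.card {i // (Fin.consEquiv (fun _ => Bool)) (c, t) i = true} =
        (if c then 1 else 0) + Fintype.card {i // t i = true} := by
      intro c
      simp only [Fintype.card_subtype, Fin.consEquiv_apply, Finset.card_filter, Fin.sum_univ_succ,
        Fin.cons_zero, Fin.cons_succ]
    simp only [hc, if_true, if_false, Bool.false_eq_true, zero_add]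
    have hl : ∀ c : Bool, List.ofFn ((Fin.consEquiv fun _ => Bool) (c, t)) = c :: List.ofFn t := fun c => by
      simp [Fin.consEquiv]
    simp only [hl, bracketWord_cons, LieRing.of_associative_ring_bracket, C_sub,
      C_mul, pair, if_true, if_false, Bool.false_eq_true]
    rw [pow_add, pow_one]
    generalize C (bracketWord (pair a b) b (List.ofFn t)) = w
    generalize Fintype.card {i // t i = true} = m
    have e1 : C b * X * (w * X ^ m) = C b * w * (X * X ^ m) := by
      rw [mul_assoc, ← mul_assoc X, X_mul (p := w), mul_assoc, ← mul_assoc]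
    have e2 : w * X ^ m * C a = w * C a * X ^ m := by
      rw [mul_assoc, X_pow_mul (p := C a) (n := m), ← mul_assoc]
    have e3 : w * X ^ m * (C b * X) = w * C b * (X * X ^ m) := by
      rw [mul_assoc, ← mul_assoc (X ^ m), X_pow_mul (p := C b) (n := m), mul_assoc, ← mul_assoc,
        X_pow_mul (p := X) (n := m)]
    rw [add_mul, mul_add, e1, e2, e3, ← mul_assoc, sub_mul, sub_mul]
    abel

theorem add_pow_prime [hp : Fact p.Prime] [CharP R p] (a b : A) :
    (a + b) ^ p = a ^ p + b ^ p - jacobson R p a b := by
  classical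
  have hp' : p.Prime := hp.out
  haveI : NeZero p := ⟨hp'.ne_zero⟩
  let φ : ZMod p →+* R := ZMod.castHom (dvd_refl p) R
  let c : ℕ → R := fun j => φ ((j : ZMod p)⁻¹)
  have hA : (p : A[X]) = 0 := by rw [← Polynomial.C_eq_natCast, natCast_p_eq_zero R A, C_0]
  let f : A[X] := C a + C b * X
  let g : A[X] := f ^ p
  have hf1 : f.natDegree ≤ 1 := by
    refine (natDegree_add_le _ _).trans (max_le (by simp) ?_)
    exact natDegree_mul_le.trans (by simpa using (natDegree_X_le (R := A)))
  have hdeg : g.natDegree ≤ p := by
    refine natDegree_pow_le.trans ?_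
    exact (Nat.mul_le_mul_left p hf1).trans (mul_one p).le
  have hder : derivative g = ∑ t : Fin (p - 1) → Bool, C (bracketWord (pair a b) b (List.ofFn t)) *
      X ^ (Fintype.card {i // t i = true}) := by
    rw [derivative_pow_sum, ← iterate_ad_expand]
    have hd : derivative f = C b := by simp [f]
    rw [hd]
    let L := LinearMap.mulLeft ℤ f
    let R' := LinearMap.mulRight ℤ f
    have hcomm : Commute L R' := LinearMap.commute_mulLeft_right f f
    have hE : (p : Module.End ℤ A[X]) = 0 := LinearMap.ext fun y => by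
      rw [Module.End.natCast_apply, ← Nat.cast_smul_eq_nsmul A[X], hA, zero_smul, LinearMap.zero_apply]
    have := LinearMap.congr_fun (sub_pow_pred hE hcomm) (C b)
    rw [LinearMap.sum_apply, Module.End.coe_pow] at this
    refine Eq.trans ?_ this.symm
    refine Finset.sum_congr rfl fun m _ => ?_
    simp only [L, R', LinearMap.pow_mulLeft, LinearMap.pow_mulRight, Module.End.mul_apply, LinearMap.mulLeft_apply,
      LinearMap.mulRight_apply, mul_assoc]
  have h0 : g.coeff 0 = a ^ p := by
    rw [← constantCoeff_apply, map_pow]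
    simp [f]
  have htop : g.coeff p = b ^ p := by
    have := coeff_pow_of_natDegree_le (m := p) hf1
    rw [mul_one] at this
    rw [this]
    simp [f]
  have hsum : g.eval 1 = (a + b) ^ p := by
    let e : A[X] →+* A := eval₂RingHom' (RingHom.id A) 1 fun x => Commute.one_right x
    have hf : e f = a + b := by
      show eval₂ (RingHom.id A) 1 (C a + C b * X) = a + b
      rw [eval₂_add, eval₂_mul_X, eval₂_C, eval₂_C, mul_one]
      rfl
    rw [← hf, ← map_pow e]
    rfl
  rw [← hsum, eval_eq_sum_range' (Nat.lt_succ_of_le hdeg)]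
  simp only [one_pow, mul_one]
  rw [Finset.sum_range_succ, htop, Finset.range_eq_Ico, Finset.sum_eq_sum_Ico_succ_bot hp'.pos, h0]
  have hmid : ∑ j ∈ Finset.Ico 1 p, g.coeff j =
      ∑ j ∈ Finset.range p, c (j + 1) • (derivative g).coeff j := by
    rw [← Nat.sub_add_cancel hp'.one_le, Finset.sum_range_succ, Nat.sub_add_cancel hp'.one_le]
    rw [show c p = 0 by simp [c], zero_smul, add_zero,
      Finset.sum_Ico_eq_sum_range]
    refine Finset.sum_congr rfl fun j hj => ?_
    have hj := Finset.mem_range.1 hj
    rw [coeff_derivative, ← Nat.cast_one (R := A), ← Nat.cast_add, ← map_natCast (algebraMap R A),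
      ← Algebra.commutes, ← Algebra.smul_def, smul_smul, add_comm 1 j, ← map_natCast φ, ← map_mul, inv_mul_cancel₀,
      map_one, one_smul]
    rw [ne_eq, ZMod.natCast_eq_zero_iff]
    intro h
    have := Nat.le_of_dvd (Nat.succ_pos j) h
    omega
  rw [hmid, hder]
  simp only [finsetSum_coeff, coeff_C_mul_X_pow, Finset.smul_sum]
  rw [Finset.sum_comm]
  simp only [smul_ite, smul_zero, Finset.sum_ite_eq', Finset.mem_range]
  have hJ : ∀ t : Fin (p - 1) → Bool,
      (if Fintype.card {i // t i = true} < p then
        c (Fintype.card {i // t i = true} + 1) • bracketWord (pair a b) b (List.ofFn t) else 0) =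
      -(φ ((Fintype.card {i // t i = false} : ZMod p)⁻¹) • bracketWord (pair a b) b (List.ofFn t)) := by
    intro t
    have hadd : Fintype.card {i // t i = true} + Fintype.card {i // t i = false} = p - 1 := by
      have h := Fintype.card_subtype_compl (fun i => t i = true)
      simp only [Bool.not_eq_true, Fintype.card_fin] at h
      have h' := Fintype.card_subtype_le (fun i => t i = true)
      rw [Fintype.card_fin] at h'
      omega
    rw [if_pos (by have := hp'.one_le; omega), ← neg_smul]
    congr 1
    simp only [c]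
    rw [← map_neg, ← inv_neg]
    congr 2
    refine eq_neg_of_add_eq_zero_left ?_
    rw [← Nat.cast_add, show Fintype.card {i // t i = true} + 1 + Fintype.card {i // t i = false} = p by
      have := hp'.one_le; omega, ZMod.natCast_self]
  rw [Finset.sum_congr rfl fun t _ => hJ t, Finset.sum_neg_distrib]
  show _ = a ^ p + b ^ p - jacobson R p a b
  rw [jacobson]
  abel

end Assoc

end PLieLib
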