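import Groth.Agent.PLieLib.Exist

set_option autoImplicit false

/-! The nilradical of a restricted Lie algebra is stable under the `p`-map. -/

noncomputable section

namespace PLieLib

open PLie

universe u v

variable {k : Type u} [Field k] {p : ℕ} [Fact p.Prime] [CharP k p] {L : Type v} [LieRing L] [LieAlgebra k L]
  (φ : PMap k p L) (N : LieIdeal k L)

/-- The lower central series of `N`, inside `L`. -/
def nilFilt (i : ℕ) : Submodule k L :=
  (LieModule.lowerCentralSeries k N N i).toSubmodule.map (N.toSubmodule.subtype)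

omit [Fact p.Prime] [CharP k p] in
theorem mem_nilFilt_zero {w : L} (hw : w ∈ N) : w ∈ nilFilt N 0 :=
  ⟨⟨w, hw⟩, by simp, rfl⟩

omit [Fact p.Prime] [CharP k p] in
theorem lie_mem_nilFilt {a w : L} {i : ℕ} (ha : a ∈ N) (hw : w ∈ nilFilt N i) : ⁅a, w⁆ ∈ nilFilt N (i + 1) := by
  obtain ⟨w', hw', rfl⟩ := hw
  refine ⟨⁅(⟨a, ha⟩ : N), w'⁆, ?_, rfl⟩
  rw [SetLike.mem_coe, LieSubmodule.mem_toSubmodule, LieModule.lowerCentralSeries_succ]
  exact LieSubmodule.lie_mem_lie (LieSubmodule.mem_top _) hw'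

omit [Fact p.Prime] [CharP k p] in
theorem nilFilt_anti {i j : ℕ} (h : i ≤ j) : nilFilt N j ≤ nilFilt N i :=
  Submodule.map_mono (LieModule.antitone_lowerCentralSeries k N N h)

omit [Fact p.Prime] [CharP k p] in
theorem ad_pow_mem_nilFilt {a : L} (ha : a ∈ N) : ∀ (m : ℕ) {i : ℕ} {w : L}, w ∈ nilFilt N i →
    (LieAlgebra.ad k L a ^ m) w ∈ nilFilt N (i + m)
  | 0, i, w, hw => by simpa using hw
  | m + 1, i, w, hw => by
    rw [pow_succ', Module.End.mul_apply, ← add_assoc]
    exact lie_mem_nilFilt N ha (ad_pow_mem_nilFilt ha m hw)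

omit [Fact p.Prime] [CharP k p] in
theorem exists_ad_pow_eq_zero [LieRing.IsNilpotent N] :
    ∃ K, ∀ a ∈ N, ∀ n, K ≤ n → LieAlgebra.ad k L a ^ n = 0 := by
  obtain ⟨n, hn⟩ := (LieModule.isNilpotent_iff k N N).1 ‹_›
  refine ⟨n + 1, fun a ha m hm => LinearMap.ext fun w => ?_⟩
  obtain ⟨d, rfl⟩ := Nat.exists_eq_add_of_le hm
  have h1 : ⁅a, w⁆ ∈ N := lie_mem_left k L N a w ha
  rw [show n + 1 + d = (n + d) + 1 by ring, pow_succ, Module.End.mul_apply, LieAlgebra.ad_apply]
  obtain ⟨z, hz, hz'⟩ := nilFilt_anti N (show n ≤ 0 + (n + d) by omega)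
    (ad_pow_mem_nilFilt N ha (n + d) (mem_nilFilt_zero N h1))
  rw [SetLike.mem_coe, LieSubmodule.mem_toSubmodule, hn, LieSubmodule.mem_bot] at hz
  rw [← hz', hz]
  rfl

theorem nilradical_stable [LieRing.IsNilpotent N] (hmax : ∀ I : LieIdeal k L, LieRing.IsNilpotent I → I ≤ N)
    (x : L) (hx : x ∈ N) : φ x ∈ N := by
  classical
  obtain ⟨q, hq⟩ := Nat.exists_eq_add_of_le (Fact.out : p.Prime).one_le
  have hbr : ∀ y : L, ⁅y, φ x⁆ ∈ N := by
    intro y
    rw [← lie_skew, lie_pmap, hq, add_comm, pow_succ', Module.End.mul_apply, LieAlgebra.ad_apply]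
    exact neg_mem (lie_mem_left k L N _ _ hx)
  let J : LieIdeal k L :=
    { (N.toSubmodule ⊔ (k ∙ φ x)) with
      lie_mem := fun {y m} hm => by
        obtain ⟨r, hr, s, hs, rfl⟩ := Submodule.mem_sup.1 hm
        obtain ⟨c, rfl⟩ := Submodule.mem_span_singleton.1 hs
        rw [lie_add, lie_smul]
        exact Submodule.mem_sup_left (add_mem (N.lie_mem hr) (Submodule.smul_mem N.toSubmodule c (hbr y))) }
  suffices hJ : LieRing.IsNilpotent J from
    hmax J hJ (Submodule.mem_sup_right (Submodule.mem_span_singleton_self (φ x)))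
  have hJN : ∀ y ∈ J, ∀ z ∈ J, ⁅y, z⁆ ∈ N := by
    intro y _ z hz
    obtain ⟨r, hr, s, hs, rfl⟩ := Submodule.mem_sup.1 hz
    obtain ⟨c, rfl⟩ := Submodule.mem_span_singleton.1 hs
    rw [lie_add, lie_smul]
    exact add_mem (N.lie_mem hr) (Submodule.smul_mem N.toSubmodule c (hbr y))
  have hJf : ∀ y ∈ J, ∀ i, ∀ w ∈ nilFilt N i, ⁅y, w⁆ ∈ nilFilt N (i + 1) := by
    intro y hy i w hw
    obtain ⟨r, hr, s, hs, rfl⟩ := Submodule.mem_sup.1 hy
    obtain ⟨c, rfl⟩ := Submodule.mem_span_singleton.1 hs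
    rw [add_lie, smul_lie, lie_pmap]
    refine add_mem (lie_mem_nilFilt N hr hw) (Submodule.smul_mem _ c ?_)
    exact nilFilt_anti N (by omega) (ad_pow_mem_nilFilt N hx p hw)
  have key : ∀ i, ∀ z ∈ LieModule.lowerCentralSeries k J J (i + 1), (z : L) ∈ nilFilt N i := by
    intro i
    induction i with
    | zero =>
      intro z hz
      rw [LieModule.lowerCentralSeries_succ, LieModule.lowerCentralSeries_zero,
        ← LieSubmodule.mem_toSubmodule, LieSubmodule.lieIdeal_oper_eq_linear_span'] at hz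
      induction hz using Submodule.span_induction with
      | mem z hz => obtain ⟨a, -, m, -, rfl⟩ := hz; exact mem_nilFilt_zero N (hJN a.1 a.2 m.1 m.2)
      | zero => exact zero_mem _
      | add a b _ _ ha hb => exact add_mem ha hb
      | smul c a _ ha => exact Submodule.smul_mem _ c ha
    | succ i ih =>
      intro z hz
      rw [LieModule.lowerCentralSeries_succ, ← LieSubmodule.mem_toSubmodule,
        LieSubmodule.lieIdeal_oper_eq_linear_span'] at hz
      induction hz using Submodule.span_induction with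
      | mem z hz => obtain ⟨a, -, m, hm, rfl⟩ := hz; exact hJf a.1 a.2 i _ (ih m hm)
      | zero => exact zero_mem _
      | add a b _ _ ha hb => exact add_mem ha hb
      | smul c a _ ha => exact Submodule.smul_mem _ c ha
  obtain ⟨n, hn⟩ := (LieModule.isNilpotent_iff k N N).1 ‹_›
  refine (LieModule.isNilpotent_iff k J J).2 ⟨n + 1, (LieSubmodule.eq_bot_iff _).2 fun z hz => ?_⟩
  obtain ⟨w, hw, hw'⟩ := key n z hz
  rw [SetLike.mem_coe, LieSubmodule.mem_toSubmodule, hn, LieSubmodule.mem_bot] at hw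
  refine Subtype.ext ?_
  rw [← hw', hw]
  rfl

end PLieLib
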