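import Groth.Agent.PLieLib.RestrictedHopf
import Mathlib.RingTheory.Derivation.Lie

set_option autoImplicit false

/-!
The dual of the restricted enveloping algebra: height one, with Lie algebra the given one.
-/

noncomputable section

namespace PLieLib.RH

open PLie PBWLib TensorProduct WithConv

universe u v w z

attribute [local instance 100] LieRing.ofAssociativeRing

variable {k : Type u} [Field k] {p : ℕ} [Fact p.Prime] [CharP k p] {L : Type v} [LieRing L] [LieAlgebra k L]
  (φ : PMap k p L) {ι : Type w} [LinearOrder ι] [Fintype ι] (b : Module.Basis ι k L)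

local notation "R₀" => RU φ b

/-- The coordinate ring. -/
abbrev Dual₀ : Type (max u v) := CartDual.D k (RU φ b)

local notation "A₀" => Dual₀ φ b

theorem mul_apply_mono (f g : A₀) (M : Multiset ι) :
    (f * g) (mono φ b M) = (M.antidiagonal.map fun q => f (mono φ b q.1) * g (mono φ b q.2)).sum := by
  show LinearMap.mul' k k (TensorProduct.map f.ofConv g.ofConv (Δ φ b (mono φ b M))) = _
  rw [Δ_mono, map_multiset_sum, map_multiset_sum, Multiset.map_map, Multiset.map_map]
  refine congrArg Multiset.sum (Multiset.map_congr rfl fun q _ => ?_)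
  simp [CartDual.coe_apply]

theorem mono_zero : mono φ b (0 : Multiset ι) = 1 := by simp [mono, word_zero]

theorem aug_mono {M : Multiset ι} (hM : M ≠ 0) : aug φ b (mono φ b M) = 0 := by
  have hne : M.toFinset.Nonempty := by
    obtain ⟨a, ha⟩ := Multiset.exists_mem_of_ne_zero hM
    exact ⟨a, Multiset.mem_toFinset.2 ha⟩
  obtain ⟨l, U, rfl, hl⟩ : ∃ l U, M = l ::ₘ U ∧ ∀ y ∈ U, l ≤ y :=
    ⟨low M hne, M.erase (low M hne), (Multiset.cons_erase (low_mem M hne)).symm,
      fun y hy => low_le _ hne (Multiset.mem_of_mem_erase hy)⟩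
  rw [mono, word_cons b hl, map_mul, map_mul, show π φ b (UniversalEnvelopingAlgebra.ι k (b l)) = gen φ b (b l) from rfl,
    aug_gen, zero_mul]

/-- The coordinate functional of a monomial. -/
def δ (M : Rst p ι) : A₀ := toConv ((basis φ b).coord M)

theorem δ_mono (M N : Rst p ι) : δ φ b M (mono φ b N.1) = if N = M then 1 else 0 := by
  classical
  show (basis φ b).coord M (mono φ b N.1) = _
  rw [← basis_apply, Module.Basis.coord_apply, Module.Basis.repr_self, Finsupp.single_apply]

theorem δ_pow_mono (M : Rst p ι) (m : ℕ) :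
    ∀ N : Rst p ι, N.1 ≠ m • M.1 → (δ φ b M ^ m) (mono φ b N.1) = 0 := by
  induction m with
  | zero =>
    intro N hN
    rw [pow_zero]
    show algebraMap k k (CoalgebraStruct.counit (R := k) (mono φ b N.1)) = 0
    rw [counit_eq, aug_mono φ b (by simpa using hN), map_zero]
  | succ m ih =>
    intro N hN
    rw [pow_succ, mul_apply_mono]
    refine Multiset.sum_eq_zero fun x hx => ?_
    obtain ⟨q, hq, rfl⟩ := Multiset.mem_map.1 hx
    have hq' := Multiset.mem_antidiagonal.1 hq
    have h1 : ∀ i, q.1.count i < p := fun i => lt_of_le_of_lt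
      (Multiset.count_le_of_le i (hq' ▸ Multiset.le_add_right _ _)) (N.2 i)
    have h2 : ∀ i, q.2.count i < p := fun i => lt_of_le_of_lt
      (Multiset.count_le_of_le i (hq' ▸ Multiset.le_add_left _ _)) (N.2 i)
    by_cases e2 : q.2 = M.1
    · have e1 : q.1 ≠ m • M.1 := fun e1 => hN (by rw [← hq', e1, e2, succ_nsmul])
      rw [ih ⟨q.1, h1⟩ e1, zero_mul]
    · rw [δ_mono φ b M ⟨q.2, h2⟩, if_neg (fun h => e2 (congrArg Subtype.val h)), mul_zero]

theorem δ_pow_prime (M : Rst p ι) (hM : M.1 ≠ 0) : δ φ b M ^ p = 0 := by
  classical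
  apply WithConv.ext
  refine (basis φ b).ext fun N => ?_
  rw [basis_apply]
  refine δ_pow_mono φ b M p N fun h => ?_
  obtain ⟨i, hi⟩ := Multiset.exists_mem_of_ne_zero hM
  have := N.2 i
  rw [h, Multiset.count_nsmul] at this
  have := Multiset.one_le_count_iff_mem.2 hi
  nlinarith

theorem pow_prime_eq_zero (f : A₀) (hf : f 1 = 0) : f ^ p = 0 := by
  classical
  haveI : Fintype (Rst p ι) := Fintype.ofFinite _
  haveI : CharP A₀ p := charP_of_injective_algebraMap (R := k) (fun x y h => by
    simpa [AlgHom.commutes] using congrArg (Bialgebra.counitAlgHom k A₀) h) p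
  haveI : ExpChar A₀ p := .prime (Fact.out : p.Prime)
  have hexp : f = ∑ M : Rst p ι, f (mono φ b M.1) • δ φ b M := by
    apply WithConv.ext
    refine (basis φ b).ext fun N => ?_
    simp only [WithConv.ofConv_sum, WithConv.ofConv_smul, LinearMap.coe_sum, Finset.sum_apply, LinearMap.smul_apply,
      basis_apply, smul_eq_mul]
    rw [Finset.sum_eq_single N]
    · have := δ_mono φ b N N
      rw [if_pos rfl] at this
      simp only [CartDual.coe_apply] at this ⊢
      rw [this, mul_one]
    · intro M _ hne
      have := δ_mono φ b M N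
      rw [if_neg (Ne.symm hne)] at this
      simp only [CartDual.coe_apply] at this ⊢
      rw [this, mul_zero]
    · simp
  rw [hexp, sum_pow_char]
  refine Finset.sum_eq_zero fun M _ => ?_
  rw [smul_pow]
  by_cases hM : M.1 = 0
  · rw [hM, mono_zero, hf, zero_pow (Fact.out : p.Prime).ne_zero, zero_smul]
  · rw [δ_pow_prime φ b M hM, smul_zero]

/-- Precomposition with right multiplication. -/
def rmul (w : R₀) : A₀ →ₗ[k] A₀ where
  toFun f := toConv (f.ofConv ∘ₗ LinearMap.mulRight k w)
  map_add' f g := by apply WithConv.ext; ext; simp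
  map_smul' c f := by apply WithConv.ext; ext; simp

@[simp] theorem rmul_apply (w : R₀) (f : A₀) (a : R₀) : rmul φ b w f a = f (a * w) := rfl

theorem rmul_mul (v w : R₀) (f : A₀) : rmul φ b v (rmul φ b w f) = rmul φ b (v * w) f := by
  apply WithConv.ext; ext a; show f ((a * v) * w) = f (a * (v * w)); rw [mul_assoc]

theorem rmul_pow (w : R₀) (n : ℕ) : ∀ f : A₀, (rmul φ b w ^ n) f = rmul φ b (w ^ n) f := by
  induction n with
  | zero => intro f; apply WithConv.ext; ext a; show f a = f (a * w ^ 0); rw [pow_zero, mul_one]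
  | succ n ih => intro f; rw [pow_succ, Module.End.mul_apply, ih, rmul_mul, ← pow_succ]

theorem rmul_leibniz (x : L) (f g : A₀) :
    rmul φ b (gen φ b x) (f * g) = f * rmul φ b (gen φ b x) g + g * rmul φ b (gen φ b x) f := by
  rw [mul_comm g]
  apply WithConv.ext
  refine LinearMap.ext fun a => ?_
  show LinearMap.mul' k k (TensorProduct.map f.ofConv g.ofConv (Δ φ b (a * gen φ b x))) =
    LinearMap.mul' k k (TensorProduct.map f.ofConv (rmul φ b (gen φ b x) g).ofConv (Δ φ b a)) +
    LinearMap.mul' k k (TensorProduct.map (rmul φ b (gen φ b x) f).ofConv g.ofConv (Δ φ b a))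
  rw [map_mul, Δ_gen]
  generalize Δ φ b a = z
  induction z using TensorProduct.induction_on with
  | zero => simp
  | add y z hy hz => simp only [add_mul, map_add, hy, hz]; abel
  | tmul c d =>
    simp only [mul_add, Algebra.TensorProduct.tmul_mul_tmul, mul_one, map_add, TensorProduct.map_tmul,
      LinearMap.mul'_apply, rmul, LinearMap.coe_mk, AddHom.coe_mk, WithConv.ofConv_toConv,
      LinearMap.comp_apply, LinearMap.mulRight_apply]
    ring

/-- The derivation of a Lie algebra element. -/
def der : L →ₗ[k] Derivation k A₀ A₀ where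
  toFun x := Derivation.mk' (rmul φ b (gen φ b x)) fun f g => by
    simpa only [smul_eq_mul] using rmul_leibniz φ b x f g
  map_add' x y := by
    refine Derivation.ext fun f => ?_
    apply WithConv.ext
    refine LinearMap.ext fun a => ?_
    show f.ofConv (a * gen φ b (x + y)) = f.ofConv (a * gen φ b x) + f.ofConv (a * gen φ b y)
    rw [map_add, mul_add, map_add]
  map_smul' c x := by
    refine Derivation.ext fun f => ?_
    apply WithConv.ext
    refine LinearMap.ext fun a => ?_
    show f.ofConv (a * gen φ b (c • x)) = c • f.ofConv (a * gen φ b x)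
    rw [map_smul, mul_smul_comm, map_smul]

theorem der_apply (x : L) (f : A₀) : der φ b x f = rmul φ b (gen φ b x) f := rfl

theorem gen_basis (i : ι) : gen φ b (b i) = mono φ b ({i} : Multiset ι) := by
  simp [mono, PBWLib.word, gen_apply]

theorem count_singleton_lt (i : ι) : ∀ j, ({i} : Multiset ι).count j < p := fun j => by
  have := (Fact.out : p.Prime).two_le
  rw [Multiset.count_singleton]
  split_ifs <;> omega

theorem gen_injective : Function.Injective (gen φ b) := by
  classical
  have h : LinearIndependent k (fun i => gen φ b (b i)) := by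
    have e : (fun i => gen φ b (b i)) =
        (fun M : Rst p ι => mono φ b M.1) ∘ fun i => ⟨{i}, count_singleton_lt i⟩ := funext (gen_basis φ b)
    rw [e]
    exact (linearIndependent_mono φ b).comp _ fun i j h => Multiset.singleton_inj.1 (congrArg Subtype.val h)
  rw [← LinearMap.ker_eq_bot, LinearMap.ker_eq_bot']
  intro x hx
  rw [← b.sum_repr x] at hx ⊢
  simp only [map_sum, map_smul] at hx
  rw [Finset.sum_eq_zero fun i _ => by rw [Fintype.linearIndependent_iff.1 h _ hx i, zero_smul]]

theorem exists_fun_separating (a : R₀) (h : ∀ f : A₀, f a = 0) : a = 0 := by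
  rw [← Module.forall_dual_apply_eq_zero_iff k]
  exact fun g => h (toConv g)

theorem der_injective : Function.Injective (der φ b) := by
  intro x y h
  apply gen_injective φ b
  rw [← sub_eq_zero]
  refine exists_fun_separating φ b _ fun f => ?_
  have := congrArg (fun z : A₀ => z (1 : R₀)) (DFunLike.congr_fun h f)
  simp only [der_apply, rmul_apply, one_mul] at this
  show f.ofConv (gen φ b x - gen φ b y) = 0
  rw [map_sub, sub_eq_zero]
  exact this

theorem ev₂_lTensor (D : A₀ →ₗ[k] A₀) (w : R₀) (hD : ∀ (f : A₀) (c : R₀), D f c = f (c * w))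
    (y : A₀ ⊗[k] A₀) (a c : R₀) :
    CartDual.ev₂ k R₀ (D.lTensor A₀ y) (a ⊗ₜ c) = CartDual.ev₂ k R₀ y (a ⊗ₜ (c * w)) := by
  induction y using TensorProduct.induction_on with
  | zero => simp
  | add y z hy hz => simp only [map_add, LinearMap.add_apply, hy, hz]
  | tmul f g => simp [hD]

theorem comul_der (x : L) :
    CoalgebraStruct.comul (R := k) (A := A₀) ∘ₗ (der φ b x).toLinearMap =
      LinearMap.lTensor A₀ (der φ b x).toLinearMap ∘ₗ CoalgebraStruct.comul (R := k) (A := A₀) := by
  refine LinearMap.ext fun f => ?_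
  apply (CartDual.ev₂ k R₀).injective
  apply TensorProduct.ext'
  intro a c
  simp only [LinearMap.comp_apply]
  rw [ev₂_lTensor φ b (der φ b x).toLinearMap (gen φ b x) (fun f c => rfl)]
  show CartDual.ev₂ k R₀ (CartDual.comul k R₀ _) _ = CartDual.ev₂ k R₀ (CartDual.comul k R₀ _) _
  rw [CartDual.ev₂_comul_tmul, CartDual.ev₂_comul_tmul]
  show f.ofConv (a * c * gen φ b x) = f.ofConv (a * (c * gen φ b x))
  rw [mul_assoc]

theorem sum_coord_antidiagonal (w : R₀) (s t : Rst p ι) :
    LinearMap.mul' k k (TensorProduct.map ((basis φ b).coord s) ((basis φ b).coord t) (Δ φ b w)) =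
      (δ φ b s * δ φ b t) w := rfl

theorem count_antidiagonal_singleton (M : Multiset ι) (i : ι) (hi : i ∈ M) :
    M.antidiagonal.count (({i} : Multiset ι), M.erase i) = M.count i := by
  classical
  have h1 : M.antidiagonal.count (({i} : Multiset ι), M.erase i) =
      (M.antidiagonal.map Prod.fst).count {i} := by
    rw [Multiset.count_map, ← Multiset.countP_eq_card_filter, Multiset.count]
    refine Multiset.countP_congr rfl fun q hq => ?_
    refine propext ?_
    have hq' := Multiset.mem_antidiagonal.1 hq
    constructor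
    · intro h; rw [← h]
    · intro h
      refine Prod.ext h ?_
      show M.erase i = q.2
      have h' : q.1 = {i} := h.symm
      rw [← hq', h', Multiset.singleton_add, Multiset.erase_cons_head]
  rw [h1, Multiset.antidiagonal_map_fst]
  have h2 : ∀ l : Multiset ι, l.powerset.count ({i} : Multiset ι) = l.count i := by
    intro l
    induction l using Multiset.induction with
    | empty => simp
    | cons a l ih =>
      rw [Multiset.powerset_cons, Multiset.count_add, ih, Multiset.count_cons]
      congr 1
      have h0 : ∀ l : Multiset ι, l.powerset.count 0 = 1 := by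
        intro l
        induction l using Multiset.induction with
        | empty => simp
        | cons a l ih =>
          rw [Multiset.powerset_cons, Multiset.count_add, ih, Multiset.count_eq_zero.2]
          simp
      split_ifs with ha
      · subst ha
        rw [show ({i} : Multiset ι) = i ::ₘ 0 from rfl,
          Multiset.count_map_eq_count' _ _ fun x y h => (Multiset.cons_inj_right _).1 h, h0]
      · rw [Multiset.count_eq_zero]
        intro h
        obtain ⟨t, -, ht⟩ := Multiset.mem_map.1 h
        have : a ∈ ({i} : Multiset ι) := ht ▸ Multiset.mem_cons_self a t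
        exact ha (Multiset.mem_singleton.1 this).symm
  exact h2 M

theorem primitive_mem_range (w : R₀)
    (h : ∀ f g : A₀, (f * g) w = f 1 * g w + f w * g 1) : w ∈ LinearMap.range (gen φ b) := by
  classical
  haveI : Fintype (Rst p ι) := Fintype.ofFinite _
  have hexp := (basis φ b).sum_repr w
  have hval : ∀ f : A₀, f w = ∑ M, (basis φ b).repr w M * f (mono φ b M.1) := by
    intro f
    conv_lhs => rw [← hexp]
    show f.ofConv _ = _
    rw [map_sum]
    exact Finset.sum_congr rfl fun M _ => by rw [map_smul, basis_apply]; rfl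
  let z : Rst p ι := ⟨0, fun _ => by simpa using (Fact.out : p.Prime).pos⟩
  have hone : ∀ M : Rst p ι, δ φ b M 1 = if z = M then 1 else 0 := by
    intro M
    rw [← mono_zero φ b]
    exact δ_mono φ b M z
  have hδw : ∀ M : Rst p ι, δ φ b M w = (basis φ b).repr w M := fun M => rfl
  have hz : (basis φ b).repr w z = 0 := by
    have h0 := h (δ φ b z) (δ φ b z)
    rw [hone, if_pos rfl, one_mul, mul_one, hδw] at h0
    have hsq : δ φ b z * δ φ b z = δ φ b z := by
      apply WithConv.ext
      refine (basis φ b).ext fun N => ?_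
      rw [basis_apply]
      show (δ φ b z * δ φ b z) (mono φ b N.1) = δ φ b z (mono φ b N.1)
      by_cases hN : N = z
      · subst hN
        rw [mul_apply_mono]
        simp only [z, Multiset.antidiagonal_zero, Multiset.map_singleton, Multiset.sum_singleton]
        rw [δ_mono φ b z z, if_pos rfl, mul_one]
      · have := δ_pow_mono φ b z 2 N (fun h2 => hN (Subtype.ext (by rw [h2]; simp [z])))
        rw [pow_two] at this
        rw [this, δ_mono φ b z N, if_neg hN]
    rw [hsq, hδw] at h0
    linear_combination -h0
  have hbig : ∀ M : Rst p ι, 2 ≤ Multiset.card M.1 → (basis φ b).repr w M = 0 := by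
    intro M hM
    obtain ⟨i, hi⟩ := Multiset.card_pos_iff_exists_mem.1 (by omega : 0 < Multiset.card M.1)
    let s : Rst p ι := ⟨{i}, count_singleton_lt i⟩
    let t : Rst p ι := ⟨M.1.erase i, fun j => lt_of_le_of_lt (Multiset.count_le_of_le j (Multiset.erase_le _ _)) (M.2 j)⟩
    have hst : s.1 + t.1 = M.1 := Multiset.cons_erase hi
    have h0 := h (δ φ b s) (δ φ b t)
    rw [hone, hone, if_neg (fun e => by simpa [z, s] using congrArg Subtype.val e), zero_mul, zero_add,
      if_neg (fun e => by
        have := congrArg (fun X : Rst p ι => Multiset.card X.1) e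
        simp only [z, t, Multiset.card_zero, Multiset.card_erase_of_mem hi, Nat.pred_eq_sub_one] at this
        omega), mul_zero, hval, Finset.sum_eq_single M] at h0
    · have hc : (δ φ b s * δ φ b t) (mono φ b M.1) = (M.1.count i : k) := by
        rw [mul_apply_mono]
        have e : ∀ q ∈ M.1.antidiagonal, δ φ b s (mono φ b q.1) * δ φ b t (mono φ b q.2) =
            if (({i} : Multiset ι), M.1.erase i) = q then 1 else 0 := by
          intro q hq
          have hq' := Multiset.mem_antidiagonal.1 hq
          have h1 : ∀ j, q.1.count j < p := fun j => lt_of_le_of_lt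
            (Multiset.count_le_of_le j (hq' ▸ Multiset.le_add_right _ _)) (M.2 j)
          have h2 : ∀ j, q.2.count j < p := fun j => lt_of_le_of_lt
            (Multiset.count_le_of_le j (hq' ▸ Multiset.le_add_left _ _)) (M.2 j)
          rw [δ_mono φ b s ⟨q.1, h1⟩, δ_mono φ b t ⟨q.2, h2⟩]
          simp only [s, t, Subtype.mk.injEq, Prod.ext_iff]
          by_cases c1 : q.1 = ({i} : Multiset ι) <;> by_cases c2 : q.2 = M.1.erase i <;>
            simp [c1, c2, Ne.symm]
        rw [Multiset.map_congr rfl e]
        have hsum : ∀ (S : Multiset (Multiset ι × Multiset ι)) (x : Multiset ι × Multiset ι),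
            (S.map fun q => if x = q then (1 : k) else 0).sum = (S.count x : k) := by
          intro S x
          induction S using Multiset.induction with
          | empty => simp
          | cons a S ih => rw [Multiset.map_cons, Multiset.sum_cons, ih, Multiset.count_cons]; split_ifs <;> simp [add_comm]
        rw [hsum, count_antidiagonal_singleton M.1 i hi]
      rw [hc] at h0
      refine (mul_eq_zero.1 h0).resolve_right ?_
      intro hc0
      have hdvd := (CharP.cast_eq_zero_iff k p _).1 hc0
      have := Nat.le_of_dvd (Multiset.one_le_count_iff_mem.2 hi) hdvd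
      exact absurd (M.2 i) (by omega)
    · intro N _ hne
      rw [mul_apply_mono, Multiset.sum_eq_zero, mul_zero]
      intro x hx
      obtain ⟨q, hq, rfl⟩ := Multiset.mem_map.1 hx
      have hq' := Multiset.mem_antidiagonal.1 hq
      have h1 : ∀ j, q.1.count j < p := fun j => lt_of_le_of_lt
        (Multiset.count_le_of_le j (hq' ▸ Multiset.le_add_right _ _)) (N.2 j)
      have h2 : ∀ j, q.2.count j < p := fun j => lt_of_le_of_lt
        (Multiset.count_le_of_le j (hq' ▸ Multiset.le_add_left _ _)) (N.2 j)
      rw [δ_mono φ b s ⟨q.1, h1⟩, δ_mono φ b t ⟨q.2, h2⟩]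
      split_ifs with e1 e2 <;> try simp
      exfalso
      refine hne (Subtype.ext ?_)
      rw [← hq', ← hst, congrArg Subtype.val e1.symm, congrArg Subtype.val e2.symm]
    · simp
  rw [← hexp]
  refine sum_mem fun M _ => ?_
  rcases Nat.lt_or_ge (Multiset.card M.1) 2 with hM | hM
  · rcases Nat.lt_or_ge (Multiset.card M.1) 1 with hM1 | hM1
    · have : M = z := Subtype.ext (Multiset.card_eq_zero.1 (by omega))
      rw [this, hz, zero_smul]
      exact zero_mem _
    · obtain ⟨i, hi⟩ := Multiset.card_eq_one.1 (by omega : Multiset.card M.1 = 1)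
      rw [basis_apply, hi, ← gen_basis]
      exact Submodule.smul_mem _ _ ⟨b i, rfl⟩
  · rw [hbig M hM, zero_smul]
    exact zero_mem _

theorem range_der :
    Set.range (der φ b) = {D : Derivation k A₀ A₀ | CoalgebraStruct.comul (R := k) (A := A₀) ∘ₗ D.toLinearMap =
      LinearMap.lTensor A₀ D.toLinearMap ∘ₗ CoalgebraStruct.comul (R := k) (A := A₀)} := by
  refine Set.Subset.antisymm (fun D ⟨x, hx⟩ => hx ▸ comul_der φ b x) fun D hD => ?_
  let F : Module.Dual k (Module.Dual k R₀) :=
    LinearMap.applyₗ (1 : R₀) ∘ₗ (CartDual.toDual k R₀).toLinearMap ∘ₗ D.toLinearMap ∘ₗ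
      (CartDual.toDual k R₀).symm.toLinearMap
  obtain ⟨w, hw⟩ := (Module.bijective_dual_eval k R₀).2 F
  have hw' : ∀ f : A₀, f w = D f 1 := fun f => by
    have := LinearMap.congr_fun hw f.ofConv
    exact this
  have hDf : ∀ (f : A₀) (a : R₀), D f a = f (a * w) := by
    intro f a
    have h := congrArg (fun y => CartDual.ev₂ k R₀ y (a ⊗ₜ (1 : R₀))) (LinearMap.congr_fun hD f)
    have h1 : ∀ y : A₀ ⊗[k] A₀, CartDual.ev₂ k R₀ (D.toLinearMap.lTensor A₀ y) (a ⊗ₜ (1 : R₀)) =
        CartDual.ev₂ k R₀ y (a ⊗ₜ w) := by
      intro y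
      induction y using TensorProduct.induction_on with
      | zero => simp
      | add y z hy hz => simp only [map_add, LinearMap.add_apply, hy, hz]
      | tmul f g =>
        rw [LinearMap.lTensor_tmul, CartDual.ev₂_tmul, CartDual.ev₂_tmul, hw' g]
        rfl
    simp only [LinearMap.comp_apply, h1] at h
    rw [CartDual.ev₂_coalgebra_comul_tmul, CartDual.ev₂_coalgebra_comul_tmul, mul_one] at h
    exact h
  obtain ⟨x, hx⟩ := primitive_mem_range φ b w fun f g => by
    rw [hw', D.leibniz, hw' g, hw' f]
    show ((f * D g : A₀) + g * D f).ofConv 1 = _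
    rw [WithConv.ofConv_add, LinearMap.add_apply]
    have e : ∀ p q : A₀, (p * q).ofConv 1 = p 1 * q 1 := fun p q => by
      show LinearMap.mul' k k (TensorProduct.map p.ofConv q.ofConv (Δ φ b 1)) = _
      rw [map_one, Algebra.TensorProduct.one_def]
      simp [CartDual.coe_apply]
    rw [e, e]
    ring
  refine ⟨x, Derivation.ext fun f => WithConv.ext (LinearMap.ext fun a => ?_)⟩
  show f (a * gen φ b x) = D f a
  rw [hDf, hx]

theorem der_lie (x y : L) : der φ b ⁅x, y⁆ = ⁅der φ b x, der φ b y⁆ := by
  refine Derivation.ext fun f => ?_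
  apply WithConv.ext
  refine LinearMap.ext fun a => ?_
  rw [Derivation.commutator_apply]
  show f.ofConv (a * gen φ b ⁅x, y⁆) =
    f.ofConv (a * gen φ b x * gen φ b y) - f.ofConv (a * gen φ b y * gen φ b x)
  rw [gen_lie, mul_sub, map_sub, mul_assoc, mul_assoc]

theorem der_pmap (x : L) : (der φ b (φ x)).toLinearMap = (der φ b x).toLinearMap ^ p := by
  refine LinearMap.ext fun f => ?_
  show rmul φ b (gen φ b (φ x)) f = (rmul φ b (gen φ b x) ^ p) f
  rw [rmul_pow, gen_pmap]

end PLieLib.RH
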