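import Groth.Agent.PLieLib.Exist

set_option autoImplicit false

/-!
The restricted enveloping algebra: a finite-dimensional restricted Lie algebra embeds into a matrix algebra.
-/

noncomputable section

namespace PLieLib

open PLie

universe u v w

attribute [local instance 100] LieRing.ofAssociativeRing

variable {k : Type u} [Field k] {p : ℕ} [Fact p.Prime] [CharP k p] {L : Type v} [LieRing L] [LieAlgebra k L]
  (φ : PMap k p L) {ι : Type w} [LinearOrder ι] (b : Module.Basis ι k L)

local notation "𝕌" => UniversalEnvelopingAlgebra k L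
local notation "ε" => UniversalEnvelopingAlgebra.ι k

open PBWLib

/-- Supported in card `< n`. -/
def lowlt (k : Type u) [Field k] (ι : Type w) (n : ℕ) : Submodule k (Poly k ι) :=
  Finsupp.supported k k {N : Multiset ι | Multiset.card N < n}

omit [LinearOrder ι] in
theorem lowlt_mono {m n : ℕ} (h : m ≤ n) : lowlt k ι m ≤ lowlt k ι n :=
  Finsupp.supported_mono fun _ hN => lt_of_lt_of_le hN h

omit [LinearOrder ι] in
theorem mon_mem_lowlt {n : ℕ} {M : Multiset ι} (h : Multiset.card M < n) : mon M ∈ lowlt k ι n :=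
  Finsupp.single_mem_supported k 1 h

/-- The symbol of `u` has leading term `M`. -/
def Lead (u : 𝕌) (M : Multiset ι) : Prop := toPoly b u - mon M ∈ lowlt k ι (Multiset.card M)

omit [Fact p.Prime] [CharP k p] in
theorem op_sub_mem (i : ι) (M : Multiset ι) : op b i M - mon (i ::ₘ M) ∈ lowlt k ι (Multiset.card M + 1) := by
  have h := PBWLib.sub_mem b (Multiset.card M) i M le_rfl
  exact Finsupp.supported_mono (fun N hN => Nat.lt_succ_of_le hN) h

omit [Fact p.Prime] [CharP k p] in
theorem act_mem_lowlt (i : ι) {n : ℕ} {v : Poly k ι} (hv : v ∈ lowlt k ι n) : act b i v ∈ lowlt k ι (n + 1) := by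
  rw [lowlt, Finsupp.supported_eq_span_single] at hv
  induction hv using Submodule.span_induction with
  | mem z hz =>
    obtain ⟨N, hN, rfl⟩ := hz
    rw [act_mon, ← sub_add_cancel (op b i N) (mon (i ::ₘ N))]
    refine add_mem (lowlt_mono (Nat.succ_le_succ (Nat.le_of_lt hN)) (op_sub_mem b i N)) (mon_mem_lowlt ?_)
    rw [Multiset.card_cons]
    exact Nat.succ_lt_succ hN
  | zero => simp
  | add y z _ _ hy hz => rw [map_add]; exact add_mem hy hz
  | smul c z _ hz => rw [map_smul]; exact Submodule.smul_mem _ c hz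

omit [Fact p.Prime] [CharP k p] in
theorem toPoly_ι_mul (x : L) (u : 𝕌) : toPoly b (ε x * u) = rho b x (toPoly b u) := by
  simp only [toPoly, LinearMap.comp_apply, LinearMap.applyₗ_apply_apply, AlgHom.toLinearMap_apply, map_mul,
    Module.End.mul_apply, repr'_ι]

omit [Fact p.Prime] [CharP k p] in
theorem Lead.ι_mul {u : 𝕌} {M : Multiset ι} (h : Lead b u M) (i : ι) : Lead b (ε (b i) * u) (i ::ₘ M) := by
  rw [Lead, toPoly_ι_mul, rho_basis, Multiset.card_cons, ← sub_add_cancel (toPoly b u) (mon M), map_add, act_mon,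
    add_sub_assoc]
  exact add_mem (act_mem_lowlt b i h) (op_sub_mem b i M)

omit [Fact p.Prime] [CharP k p] in
theorem rho_mem_lowlt (x : L) {n : ℕ} {v : Poly k ι} (hv : v ∈ lowlt k ι n) : rho b x v ∈ lowlt k ι (n + 1) := by
  induction b.mem_span x using Submodule.span_induction with
  | mem z hz => obtain ⟨i, rfl⟩ := hz; rw [rho_basis]; exact act_mem_lowlt b i hv
  | zero => simp
  | add y z _ _ hy hz => rw [map_add, LinearMap.add_apply]; exact add_mem hy hz
  | smul c z _ hz => rw [map_smul, LinearMap.smul_apply]; exact Submodule.smul_mem _ c hz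

omit [Fact p.Prime] [CharP k p] in
theorem Lead.mem_lowlt {u : 𝕌} {M : Multiset ι} (h : Lead b u M) : toPoly b u ∈ lowlt k ι (Multiset.card M + 1) := by
  rw [← sub_add_cancel (toPoly b u) (mon M)]
  exact add_mem (lowlt_mono (Nat.le_succ _) h) (mon_mem_lowlt (Nat.lt_succ_self _))

theorem zc_mem_center (i : ι) : ε (b i) ^ p - ε (φ (b i)) ∈ Subalgebra.center k 𝕌 := by
  rw [Subalgebra.mem_center_iff]
  intro a
  obtain ⟨t, rfl⟩ : ∃ t, UniversalEnvelopingAlgebra.mkAlgHom k L t = a := Quotient.exists_rep a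
  induction t using TensorAlgebra.induction with
  | algebraMap r => rw [AlgHom.commutes]; exact Algebra.commutes r _
  | ι x =>
    change ε x * (ε (b i) ^ p - ε (φ (b i))) = (ε (b i) ^ p - ε (φ (b i))) * ε x
    have hpow : ∀ n : ℕ, (LieAlgebra.ad k 𝕌 (ε (b i)) ^ n) (ε x) = ε ((LieAlgebra.ad k L (b i) ^ n) x) := by
      intro n
      induction n with
      | zero => rfl
      | succ n ih => rw [pow_succ', pow_succ', Module.End.mul_apply, Module.End.mul_apply, ih]; exact ((ε : L →ₗ⁅k⁆ 𝕌).map_lie _ _).symm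
    have h : ⁅ε (b i) ^ p - ε (φ (b i)), ε x⁆ = 0 := by
      rw [sub_lie, ← LieAlgebra.ad_apply k, ← ad_pow_char, hpow, ← lie_pmap φ, LieHom.map_lie, sub_self]
    rw [LieRing.of_associative_ring_bracket, sub_eq_zero] at h
    exact h.symm
  | mul s t hs ht => rw [map_mul, mul_assoc, ht, ← mul_assoc, hs, mul_assoc]
  | add s t hs ht => rw [map_add, add_mul, mul_add, hs, ht]

/-- The central elements `x_i^p - φ(x_i)`. -/
def zc (i : ι) : Subalgebra.center k 𝕌 := ⟨_, zc_mem_center φ b i⟩

theorem Lead.zc_mul {u : 𝕌} {M : Multiset ι} (h : Lead b u M) (i : ι) :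
    Lead b ((zc φ b i : 𝕌) * u) (Multiset.replicate p i + M) := by
  have hp := (Fact.out : p.Prime).two_le
  have h1 : ∀ n : ℕ, Lead b (ε (b i) ^ n * u) (Multiset.replicate n i + M) := by
    intro n
    induction n with
    | zero => simpa using h
    | succ n ih =>
      rw [pow_succ', mul_assoc, Multiset.replicate_succ, Multiset.cons_add]
      exact ih.ι_mul b i
  show toPoly b ((ε (b i) ^ p - ε (φ (b i))) * u) - _ ∈ _
  rw [sub_mul, map_sub, sub_right_comm]
  refine sub_mem (h1 p) (lowlt_mono ?_ (toPoly_ι_mul b (φ (b i)) u ▸ rho_mem_lowlt b _ h.mem_lowlt))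
  rw [Multiset.card_add, Multiset.card_replicate]
  omega

/-- Restricted monomials times central monomials. -/
def Ew (r Q : Multiset ι) : 𝕌 := ((Q.map (zc φ b)).prod : Subalgebra.center k 𝕌) * word b r

/-- `M` as restricted part plus `p` times a quotient. -/
def comb (p : ℕ) (r Q : Multiset ι) : Multiset ι := p • Q + r

theorem lead_Ew (r Q : Multiset ι) : Lead b (Ew φ b r Q) (comb p r Q) := by
  induction Q using Multiset.induction with
  | empty => simp [Ew, comb, Lead, toPoly_word b _ r rfl]
  | cons i Q ih =>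
    have h := Lead.zc_mul φ b ih i
    have e : comb p r (i ::ₘ Q) = Multiset.replicate p i + comb p r Q := by
      rw [comb, comb, ← Multiset.singleton_add, smul_add, Multiset.nsmul_singleton, add_assoc]
    rw [e]
    simpa [Ew, mul_assoc] using h

omit [LinearOrder ι] in
theorem exists_comb (p : ℕ) (hp : 0 < p) [DecidableEq ι] (M : Multiset ι) :
    ∃ r Q : Multiset ι, (∀ i, r.count i < p) ∧ comb p r Q = M := by
  induction M using Multiset.strongInductionOn with
  | _ M ih =>
    by_cases h : ∀ i, M.count i < p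
    · exact ⟨M, 0, h, by simp [comb]⟩
    push Not at h
    obtain ⟨i, hi⟩ := h
    have hle : Multiset.replicate p i ≤ M := Multiset.le_count_iff_replicate_le.1 hi
    obtain ⟨r, Q, hr, hQ⟩ := ih (M - Multiset.replicate p i) (lt_of_le_of_ne tsub_le_self fun e => by
      have := congrArg (Multiset.count i) e
      rw [Multiset.count_sub, Multiset.count_replicate_self] at this
      omega)
    refine ⟨r, i ::ₘ Q, hr, ?_⟩
    rw [comb, ← Multiset.singleton_add, smul_add, Multiset.nsmul_singleton, add_assoc,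
      show p • Q + r = M - Multiset.replicate p i from hQ, add_tsub_cancel_of_le hle]

theorem span_Ew [DecidableEq ι] :
    Submodule.span k ((fun q : Multiset ι × Multiset ι => Ew φ b q.1 q.2) '' {q | ∀ i, q.1.count i < p}) = ⊤ := by
  have key : ∀ n, lowlt k ι n ≤ (Submodule.span k
      ((fun q : Multiset ι × Multiset ι => Ew φ b q.1 q.2) '' {q | ∀ i, q.1.count i < p})).map (toPoly b) := by
    intro n
    induction n with
    | zero => rw [lowlt, Finsupp.supported_eq_span_single, Submodule.span_le]; rintro _ ⟨N, hN, rfl⟩; exact absurd hN (Nat.not_lt_zero _)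
    | succ n ih =>
      rw [lowlt, Finsupp.supported_eq_span_single, Submodule.span_le]
      rintro _ ⟨N, hN, rfl⟩
      obtain ⟨r, Q, hr, rfl⟩ := exists_comb p (Fact.out : p.Prime).pos N
      have h := lead_Ew φ b r Q
      have he : mon (comb p r Q) = toPoly b (Ew φ b r Q) - (toPoly b (Ew φ b r Q) - mon (comb p r Q)) :=
        (sub_sub_cancel _ _).symm
      show mon (comb p r Q) ∈ _
      rw [he]
      exact sub_mem ⟨_, Submodule.subset_span ⟨(r, Q), hr, rfl⟩, rfl⟩
        (ih (lowlt_mono (Nat.lt_succ_iff.1 hN) h))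
  refine eq_top_iff.2 fun u _ => ?_
  obtain ⟨w, hw, hw'⟩ := key ((toPoly b u).support.sup Multiset.card + 1)
    ((Finsupp.mem_supported k _).2 fun N hN => Nat.lt_succ_of_le (Finset.le_sup (f := Multiset.card) hN))
  rwa [← (pbwBasis b).repr.injective (show (pbwBasis b).repr w = (pbwBasis b).repr u from hw')]

include b in
theorem exists_isPSubOfAssoc [Fintype ι] [DecidableEq ι] :
    ∃ (n : ℕ) (e : L →ₗ[k] Matrix (Fin n) (Fin n) k), IsPSubOfAssoc φ e := by
  classical
  have hp := (Fact.out : p.Prime).two_le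
  let J : Submodule 𝕌 𝕌 := Submodule.span 𝕌 (Set.range fun i => (zc φ b i : 𝕌))
  let T := Submodule.span k ((fun q : Multiset ι × Multiset ι => Ew φ b q.1 q.2) ''
    {q | (∀ i, q.1.count i < p) ∧ q.2 ≠ 0})
  have hJT : J.restrictScalars k ≤ T := by
    intro x hx
    obtain ⟨c, rfl⟩ := (Submodule.mem_span_range_iff_exists_fun 𝕌).1 hx
    refine sum_mem fun i _ => ?_
    obtain ⟨d, hd⟩ : ∃ d, c i = d := ⟨_, rfl⟩
    rw [hd]
    have hc : d ∈ (⊤ : Submodule k 𝕌) := trivial
    rw [← span_Ew φ b] at hc
    clear hd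
    induction hc using Submodule.span_induction with
    | mem y hy =>
      obtain ⟨⟨r, Q⟩, hr, rfl⟩ := hy
      refine Submodule.subset_span ⟨(r, i ::ₘ Q), ⟨hr, Multiset.cons_ne_zero⟩, ?_⟩
      simp only [Ew, Multiset.map_cons, Multiset.prod_cons, Subalgebra.coe_mul, smul_eq_mul]
      rw [mul_assoc]
      exact ((Subalgebra.mem_center_iff.1 (zc φ b i).2) _).symm
    | zero => simp
    | add y z _ _ hy hz => rw [add_smul]; exact add_mem hy hz
    | smul a z _ hz => rw [smul_assoc]; exact Submodule.smul_mem _ a hz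
  have hinj : ∀ x : L, ε x ∈ J → x = 0 := by
    intro x hx
    have hxT := hJT hx
    rw [Submodule.mem_span_image_iff_exists_fun] at hxT
    obtain ⟨s, hs, c, hc⟩ := hxT
    refine ι_injective b (Eq.trans ?_ (map_zero (ε : L →ₗ⁅k⁆ 𝕌)).symm)
    by_contra hx0
    have hne : (Finset.univ.filter fun q : s => c q ≠ 0).Nonempty := by
      by_contra he
      rw [Finset.not_nonempty_iff_eq_empty, Finset.filter_eq_empty_iff] at he
      refine hx0 ?_
      rw [← hc]
      refine Finset.sum_eq_zero fun q _ => ?_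
      rw [not_not.1 (he (Finset.mem_univ q)), zero_smul]
    obtain ⟨q₀, hq₀, hmax⟩ := Finset.exists_max_image _ (fun q : s => Multiset.card (comb p q.1.1 q.1.2)) hne
    rw [Finset.mem_filter] at hq₀
    have h2 : 2 ≤ Multiset.card (comb p q₀.1.1 q₀.1.2) := by
      have := (hs q₀.2).2
      have h1 : 1 ≤ Multiset.card q₀.1.2 := Multiset.card_pos.2 this
      rw [comb, Multiset.card_add, Multiset.card_nsmul]
      nlinarith
    have hcoef := congrArg (fun u => toPoly b u (comb p q₀.1.1 q₀.1.2)) hc
    simp only [map_sum, map_smul, Finsupp.finsetSum_apply, Finsupp.smul_apply, smul_eq_mul] at hcoef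
    have hlow : toPoly b (ε x) ∈ lowlt k ι 2 := by
      have h1 : toPoly b (1 : 𝕌) = mon 0 := by simpa [word_zero] using toPoly_word b _ (0 : Multiset ι) rfl
      rw [← mul_one (ε x), toPoly_ι_mul, h1]
      exact rho_mem_lowlt b x (mon_mem_lowlt (by simp))
    have hvan : ∀ (v : Poly k ι) (n : ℕ) (M : Multiset ι), v ∈ lowlt k ι n → n ≤ Multiset.card M → v M = 0 := by
      intro v n M hv hM
      by_contra hv0
      have : Multiset.card M < n := (Finsupp.mem_supported k v).1 hv (Finsupp.mem_support_iff.2 hv0)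
      omega
    rw [hvan _ _ _ hlow h2, Finset.sum_eq_single q₀] at hcoef
    · have hl := hvan _ _ (comb p q₀.1.1 q₀.1.2) (lead_Ew φ b q₀.1.1 q₀.1.2) le_rfl
      rw [Finsupp.sub_apply, Finsupp.single_eq_same, sub_eq_zero] at hl
      rw [hl, mul_one] at hcoef
      exact hq₀.2 hcoef
    · intro q _ hq
      by_cases hcq : c q = 0
      · rw [hcq, zero_mul]
      have hle := hmax q (Finset.mem_filter.2 ⟨Finset.mem_univ q, hcq⟩)
      have hl := hvan _ _ (comb p q₀.1.1 q₀.1.2) (lead_Ew φ b q.1.1 q.1.2) hle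
      rw [Finsupp.sub_apply, sub_eq_zero] at hl
      rw [hl, Finsupp.single_apply, if_neg, mul_zero]
      intro heq
      refine hq (Subtype.ext ?_)
      have hcount : ∀ i, q.1.1.count i = q₀.1.1.count i ∧ q.1.2.count i = q₀.1.2.count i := by
        intro i
        have := congrArg (Multiset.count i) heq
        simp only [comb, Multiset.count_add, Multiset.count_nsmul] at this
        have h1 := (hs q.2).1 i
        have h0 := (hs q₀.2).1 i
        have hr : q.1.1.count i = q₀.1.1.count i := by
          have := congrArg (· % p) this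
          simpa [Nat.mod_eq_of_lt h1, Nat.mod_eq_of_lt h0] using this
        refine ⟨hr, Nat.eq_of_mul_eq_mul_left (by omega : 0 < p) ?_⟩
        omega
      exact Prod.ext (Multiset.ext.2 fun i => (hcount i).1) (Multiset.ext.2 fun i => (hcount i).2)
    · simp
  -- finiteness
  let π : 𝕌 →ₗ[k] 𝕌 ⧸ J := J.mkQ.restrictScalars k
  haveI : Module.Finite k (𝕌 ⧸ J) := by
    refine ⟨⟨(Fintype.piFinset fun _ : ι => Finset.range p).image fun r => π (word b (∑ i, r i • {i})), ?_⟩⟩
    rw [eq_top_iff]
    intro v hv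
    clear hv
    obtain ⟨u, rfl⟩ := Submodule.mkQ_surjective J v
    have hu : u ∈ (⊤ : Submodule k 𝕌) := trivial
    rw [← span_Ew φ b] at hu
    induction hu using Submodule.span_induction with
    | mem y hy =>
      obtain ⟨⟨r, Q⟩, hr, rfl⟩ := hy
      rcases Q.empty_or_exists_mem with rfl | ⟨i, hi⟩
      · refine Submodule.subset_span ?_
        rw [Finset.coe_image]
        refine ⟨fun i => r.count i, by simpa using hr, ?_⟩
        have e : ∑ i : ι, r.count i • ({i} : Multiset ι) = r := Multiset.ext.2 fun j => by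
          simp [Multiset.count_sum', Multiset.count_nsmul, Multiset.count_singleton]
        show π (word b _) = _
        rw [e]
        simp [π, Ew]
      · obtain ⟨Q', rfl⟩ := Multiset.exists_cons_of_mem hi
        convert Submodule.zero_mem _
        rw [Submodule.mkQ_apply, Submodule.Quotient.mk_eq_zero]
        have : Ew φ b r (i ::ₘ Q') = Ew φ b r Q' • (zc φ b i : 𝕌) := by
          simp only [Ew, Multiset.map_cons, Multiset.prod_cons, Subalgebra.coe_mul, smul_eq_mul]
          rw [mul_assoc]
          exact ((Subalgebra.mem_center_iff.1 (zc φ b i).2) _).symm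
        show Ew φ b r (i ::ₘ Q') ∈ J
        rw [this]
        exact Submodule.smul_mem _ _ (Submodule.subset_span ⟨i, rfl⟩)
    | zero => simp
    | add y z _ _ hy hz => rw [map_add]; exact add_mem hy hz
    | smul a z _ hz =>
      rw [show J.mkQ (a • z) = a • J.mkQ z from map_smul π a z]
      exact Submodule.smul_mem _ a hz
  let act' : 𝕌 →ₐ[k] Module.End k (𝕌 ⧸ J) := Algebra.lsmul k k (𝕌 ⧸ J)
  obtain ⟨n, ⟨bV⟩⟩ : ∃ n, Nonempty (Module.Basis (Fin n) k (𝕌 ⧸ J)) :=
    ⟨_, ⟨Module.finBasis k (𝕌 ⧸ J)⟩⟩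
  let Φ : 𝕌 →ₐ[k] Matrix (Fin n) (Fin n) k := (LinearMap.toMatrixAlgEquiv bV).toAlgHom.comp act'
  refine ⟨n, Φ.toLinearMap ∘ₗ (ε : L →ₗ⁅k⁆ 𝕌).toLinearMap, ?_, fun x y => ?_, fun x => ?_⟩
  · rw [injective_iff_map_eq_zero]
    intro x hx
    have : act' (ε x) = 0 := by
      apply (LinearMap.toMatrixAlgEquiv bV).injective
      rw [map_zero]
      exact hx
    have h1 := LinearMap.congr_fun this (Submodule.Quotient.mk 1)
    rw [LinearMap.zero_apply] at h1
    refine hinj x ((Submodule.Quotient.mk_eq_zero J).1 ?_)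
    rw [← h1]
    simp only [act', Algebra.lsmul_coe]
    rw [← Submodule.Quotient.mk_smul, smul_eq_mul, mul_one]
  · show Φ (ε ⁅x, y⁆) = Φ (ε x) * Φ (ε y) - Φ (ε y) * Φ (ε x)
    rw [LieHom.map_lie, LieRing.of_associative_ring_bracket, map_sub, map_mul, map_mul]
  · show Φ (ε (φ x)) = Φ (ε x) ^ p
    induction b.mem_span x using Submodule.span_induction with
    | mem z hz =>
      obtain ⟨i, rfl⟩ := hz
      rw [← map_pow, eq_comm, ← sub_eq_zero, ← map_sub]
      have : act' (ε (b i) ^ p - ε (φ (b i))) = 0 := by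
        refine LinearMap.ext fun v => ?_
        obtain ⟨u, rfl⟩ := Submodule.mkQ_surjective J v
        simp only [act', Algebra.lsmul_coe, LinearMap.zero_apply, Submodule.mkQ_apply]
        rw [← Submodule.Quotient.mk_smul, Submodule.Quotient.mk_eq_zero, smul_eq_mul,
          show (ε (b i) ^ p - ε (φ (b i))) * u = u * (zc φ b i : 𝕌) from
            ((Subalgebra.mem_center_iff.1 (zc φ b i).2) u).symm]
        exact Submodule.smul_mem _ u (Submodule.subset_span ⟨i, rfl⟩)
      rw [AlgHom.comp_apply, this, map_zero]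
    | zero => rw [pmap_zero, map_zero, map_zero, zero_pow (Fact.out : p.Prime).ne_zero]
    | add y z _ _ hy hz =>
      rw [φ.map_add, map_sub, map_add, map_sub, map_add, hy, hz, map_add ε, map_add Φ, add_pow_prime (R := k),
        map_jacobson]
      exact congrArg _ (map_jacobson (AlgHom.toLieHom Φ) (ε y) (ε z))
    | smul a z _ hz => rw [φ.map_smul, map_smul, map_smul, hz, map_smul, map_smul, smul_pow]

end PLieLib
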