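import Groth.Agent.PLieLib.RestrictedEnv
import Groth.Prelude.Def_CartDual
import Mathlib.RingTheory.Coalgebra.Basic
import Mathlib.RingTheory.HopfAlgebra.Basic
import Mathlib.Data.Multiset.Antidiagonal

set_option autoImplicit false

/-!
The restricted enveloping algebra as a cocommutative Hopf algebra, with its monomial basis and primitives.
-/

noncomputable section

namespace PLieLib.RH

open PLie PBWLib TensorProduct MulOpposite

universe u v w z

attribute [local instance 100] LieRing.ofAssociativeRing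

variable {k : Type u} [Field k] {p : ℕ} [Fact p.Prime] [CharP k p] {L : Type v} [LieRing L] [LieAlgebra k L]
  (φ : PMap k p L) {ι : Type w} [LinearOrder ι] (b : Module.Basis ι k L)

local notation "𝕌" => UniversalEnvelopingAlgebra k L
local notation "ε" => UniversalEnvelopingAlgebra.ι k

/-- The defining ideal. -/
def J : Ideal 𝕌 := Ideal.span (Set.range fun i => (zc φ b i : 𝕌))

instance : (J φ b).IsTwoSided := ⟨fun {a} c ha => by
  induction ha using Submodule.span_induction with
  | mem x hx =>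
    obtain ⟨i, rfl⟩ := hx
    rw [← (Subalgebra.mem_center_iff.1 (zc φ b i).2) c]
    exact Ideal.mul_mem_left _ c (Ideal.subset_span ⟨i, rfl⟩)
  | zero => simp
  | add x y _ _ hx hy => rw [add_mul]; exact add_mem hx hy
  | smul r x _ hx => rw [smul_eq_mul, mul_assoc]; exact Ideal.mul_mem_left _ r hx⟩

/-- The restricted enveloping algebra. -/
abbrev RU : Type (max u v) := 𝕌 ⧸ J φ b

/-- The quotient map. -/
def π : 𝕌 →ₐ[k] RU φ b := Ideal.Quotient.mkₐ k (J φ b)

theorem π_surjective : Function.Surjective (π φ b) := Ideal.Quotient.mkₐ_surjective k _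

/-- The canonical map of the Lie algebra. -/
def gen : L →ₗ[k] RU φ b := (π φ b).toLinearMap ∘ₗ (ε : L →ₗ⁅k⁆ 𝕌).toLinearMap

theorem gen_apply (x : L) : gen φ b x = π φ b (ε x) := rfl

theorem gen_lie (x y : L) : gen φ b ⁅x, y⁆ = gen φ b x * gen φ b y - gen φ b y * gen φ b x := by
  rw [gen_apply, gen_apply, gen_apply, LieHom.map_lie, LieRing.of_associative_ring_bracket, map_sub, map_mul, map_mul]

theorem gen_pow_basis (i : ι) : gen φ b (φ (b i)) = gen φ b (b i) ^ p := by
  rw [gen_apply, gen_apply, ← map_pow, eq_comm, ← sub_eq_zero, ← map_sub]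
  exact Ideal.Quotient.eq_zero_iff_mem.2 (Ideal.subset_span ⟨i, rfl⟩)

theorem gen_pmap (x : L) : gen φ b (φ x) = gen φ b x ^ p := by
  induction b.mem_span x using Submodule.span_induction with
  | mem z hz => obtain ⟨i, rfl⟩ := hz; exact gen_pow_basis φ b i
  | zero => rw [pmap_zero, map_zero, zero_pow (Fact.out : p.Prime).ne_zero]
  | add y z _ _ hy hz =>
    rw [φ.map_add, map_sub, map_add, hy, hz, map_add (gen φ b), add_pow_prime (R := k)]
    simp only [gen_apply, map_jacobson]
    exact congrArg _ (map_jacobson (AlgHom.toLieHom (π φ b)) (ε y) (ε z))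
  | smul a z _ hz => rw [φ.map_smul, map_smul, hz, map_smul, smul_pow]

section Lift

variable {B : Type z} [Ring B] [Algebra k B]

/-- The universal property. -/
def lift (f : L →ₗ⁅k⁆ B) (hf : ∀ i, f (φ (b i)) = f (b i) ^ p) : RU φ b →ₐ[k] B :=
  Ideal.Quotient.liftₐ (J φ b) (UniversalEnvelopingAlgebra.lift k f) fun a ha => by
    induction ha using Submodule.span_induction with
    | mem x hx =>
      obtain ⟨i, rfl⟩ := hx
      show UniversalEnvelopingAlgebra.lift k f (ε (b i) ^ p - ε (φ (b i))) = 0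
      rw [map_sub, map_pow, UniversalEnvelopingAlgebra.lift_ι_apply, UniversalEnvelopingAlgebra.lift_ι_apply, hf,
        sub_self]
    | zero => simp
    | add x y _ _ hx hy => rw [map_add, hx, hy, add_zero]
    | smul r x _ hx => rw [smul_eq_mul, map_mul, hx, mul_zero]

theorem lift_gen (f : L →ₗ⁅k⁆ B) (hf : ∀ i, f (φ (b i)) = f (b i) ^ p) (x : L) :
    lift φ b f hf (gen φ b x) = f x :=
  UniversalEnvelopingAlgebra.lift_ι_apply k f x

theorem algHom_ext {f g : RU φ b →ₐ[k] B} (h : ∀ x, f (gen φ b x) = g (gen φ b x)) : f = g := by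
  refine AlgHom.ext fun u => ?_
  obtain ⟨a, rfl⟩ := π_surjective φ b u
  have : f.comp (π φ b) = g.comp (π φ b) := UniversalEnvelopingAlgebra.hom_ext k (LieHom.ext h)
  exact AlgHom.congr_fun this a

end Lift

local notation "R₀" => RU φ b

theorem commute_tmul (a c : R₀) :
    Commute (a ⊗ₜ[k] (1 : R₀)) ((1 : R₀) ⊗ₜ[k] c) := by
  simp [Commute, SemiconjBy]

/-- The primitive Lie map. -/
def primMap : L →ₗ⁅k⁆ (R₀ ⊗[k] R₀) where
  toLinearMap := (Algebra.TensorProduct.includeLeft (R := k) (S := k) (A := R₀) (B := R₀)).toLinearMap ∘ₗ gen φ b +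
    (Algebra.TensorProduct.includeRight (R := k) (A := R₀) (B := R₀)).toLinearMap ∘ₗ gen φ b
  map_lie' := fun {x y} => by
    simp only [AddHom.toFun_eq_coe, LinearMap.coe_toAddHom, LinearMap.add_apply, LinearMap.comp_apply,
      AlgHom.toLinearMap_apply, Algebra.TensorProduct.includeLeft_apply, Algebra.TensorProduct.includeRight_apply,
      LieRing.of_associative_ring_bracket, gen_lie, TensorProduct.sub_tmul, TensorProduct.tmul_sub, mul_add, add_mul,
      Algebra.TensorProduct.tmul_mul_tmul, one_mul, mul_one]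
    abel

theorem primMap_apply (x : L) : primMap φ b x = gen φ b x ⊗ₜ 1 + 1 ⊗ₜ gen φ b x := rfl

/-- The counit. -/
def aug : R₀ →ₐ[k] k := lift φ b 0 fun i => by simp [(Fact.out : p.Prime).ne_zero]

theorem aug_gen (x : L) : aug φ b (gen φ b x) = 0 := lift_gen φ b _ _ x

include φ b in
theorem charP_tensor : CharP (R₀ ⊗[k] R₀) p := by
  refine charP_of_injective_algebraMap (R := k) (fun x y h => ?_) p
  have := congrArg ((Algebra.TensorProduct.lmul' (S := k) k).comp
    (Algebra.TensorProduct.map (aug φ b) (aug φ b))) h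
  simpa [-Algebra.TensorProduct.algebraMap_apply, AlgHom.commutes] using this

include φ b in
theorem charP_op : CharP R₀ᵐᵒᵖ p := by
  refine charP_of_injective_algebraMap (R := k) (fun x y h => ?_) p
  have := congrArg (fun z : R₀ᵐᵒᵖ => aug φ b (MulOpposite.unop z)) h
  simpa [MulOpposite.algebraMap_apply, AlgHom.commutes] using this

theorem primMap_pow (i : ι) : primMap φ b (φ (b i)) = primMap φ b (b i) ^ p := by
  haveI := charP_tensor φ b
  haveI : ExpChar (R₀ ⊗[k] R₀) p := .prime (Fact.out : p.Prime)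
  rw [primMap_apply, primMap_apply, add_pow_expChar_of_commute p (commute_tmul φ b _ _), gen_pow_basis,
    Algebra.TensorProduct.tmul_pow, Algebra.TensorProduct.tmul_pow, one_pow]

/-- The comultiplication. -/
def Δ : R₀ →ₐ[k] (R₀ ⊗[k] R₀) := lift φ b (primMap φ b) (primMap_pow φ b)

theorem Δ_gen (x : L) : Δ φ b (gen φ b x) = gen φ b x ⊗ₜ 1 + 1 ⊗ₜ gen φ b x := lift_gen φ b _ _ x

/-- The antipode Lie map. -/
def antiMap : L →ₗ⁅k⁆ R₀ᵐᵒᵖ where
  toLinearMap := -((MulOpposite.opLinearEquiv k).toLinearMap ∘ₗ gen φ b)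
  map_lie' := fun {x y} => by
    simp only [AddHom.toFun_eq_coe, LinearMap.coe_toAddHom, LinearMap.neg_apply, LinearMap.comp_apply,
      LinearEquiv.coe_coe, coe_opLinearEquiv, LieRing.of_associative_ring_bracket, gen_lie, op_sub, op_mul,
      neg_mul_neg, neg_sub]

theorem antiMap_apply (x : L) : antiMap φ b x = -op (gen φ b x) := rfl

theorem antiMap_pow (i : ι) : antiMap φ b (φ (b i)) = antiMap φ b (b i) ^ p := by
  haveI := charP_op φ b
  haveI : ExpChar R₀ᵐᵒᵖ p := .prime (Fact.out : p.Prime)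
  rw [antiMap_apply, antiMap_apply, gen_pow_basis, op_pow]
  rcases (Fact.out : p.Prime).eq_two_or_odd' with h2 | hodd
  · subst h2
    rw [neg_sq, CharTwo.neg_eq]
  · rw [hodd.neg_pow]

/-- The antipode, into the opposite algebra. -/
def anti : R₀ →ₐ[k] R₀ᵐᵒᵖ := lift φ b (antiMap φ b) (antiMap_pow φ b)

instance instBialgebra : Bialgebra k R₀ :=
  Bialgebra.ofAlgHom (Δ φ b) (aug φ b)
    (algHom_ext φ b fun x => by
      simp [Δ_gen, TensorProduct.add_tmul, TensorProduct.tmul_add, map_add, Algebra.TensorProduct.one_def]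
      abel)
    (algHom_ext φ b fun x => by simp [Δ_gen, aug_gen, map_add, TensorProduct.zero_tmul])
    (algHom_ext φ b fun x => by simp [Δ_gen, aug_gen, map_add, TensorProduct.tmul_zero])

theorem comul_eq (u : R₀) : CoalgebraStruct.comul (R := k) u = Δ φ b u := rfl
theorem counit_eq (u : R₀) : CoalgebraStruct.counit (R := k) u = aug φ b u := rfl

instance instIsCocomm : Coalgebra.IsCocomm k R₀ where
  comm_comp_comul := by
    refine LinearMap.ext fun u => ?_
    have h : (Algebra.TensorProduct.comm k R₀ R₀).toAlgHom.comp (Δ φ b) = Δ φ b :=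
      algHom_ext φ b fun x => by simp [Δ_gen, add_comm]
    exact AlgHom.congr_fun h u

/-- The antipode as a linear map. -/
def antiLin : R₀ →ₗ[k] R₀ := (MulOpposite.opLinearEquiv k).symm.toLinearMap ∘ₗ (anti φ b).toLinearMap

theorem antiLin_mul (u v : R₀) : antiLin φ b (u * v) = antiLin φ b v * antiLin φ b u := by simp [antiLin]
theorem antiLin_one : antiLin φ b 1 = 1 := by simp [antiLin]
theorem antiLin_gen (x : L) : antiLin φ b (gen φ b x) = -gen φ b x := by
  simp [antiLin, anti, lift_gen, antiMap_apply]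

theorem antipode_left (u : R₀) :
    LinearMap.mul' k R₀ ((antiLin φ b).rTensor R₀ (Δ φ b u)) = algebraMap k R₀ (aug φ b u) := by
  let F : R₀ →ₗ[k] R₀ := LinearMap.mul' k R₀ ∘ₗ (antiLin φ b).rTensor R₀ ∘ₗ (Δ φ b).toLinearMap
  suffices h : ∀ (a : 𝕌) (v : R₀), F (π φ b a * v) = aug φ b (π φ b a) • F v by
    obtain ⟨a, rfl⟩ := π_surjective φ b u
    have := h a 1
    rw [mul_one] at this
    show F (π φ b a) = _
    rw [this, Algebra.algebraMap_eq_smul_one]
    simp [F, Algebra.TensorProduct.one_def, antiLin_one]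
  intro a
  obtain ⟨t, rfl⟩ : ∃ t, UniversalEnvelopingAlgebra.mkAlgHom k L t = a := Quotient.exists_rep a
  induction t using TensorAlgebra.induction with
  | algebraMap r =>
    intro v
    simp [AlgHom.commutes, ← Algebra.smul_def]
  | ι x =>
    intro v
    show F (gen φ b x * v) = aug φ b (gen φ b x) • F v
    rw [aug_gen, zero_smul]
    simp only [F, LinearMap.comp_apply, AlgHom.toLinearMap_apply, map_mul, Δ_gen]
    generalize Δ φ b v = z
    induction z using TensorProduct.induction_on with
    | zero => simp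
    | add y z hy hz => rw [mul_add, map_add, map_add, hy, hz, add_zero]
    | tmul c d => simp [add_mul, antiLin_mul, antiLin_gen, mul_assoc]
  | mul s t hs ht =>
    intro v
    rw [map_mul (UniversalEnvelopingAlgebra.mkAlgHom k L), map_mul (π φ b), mul_assoc, hs, ht, map_mul (aug φ b), smul_smul]
  | add s t hs ht => intro v; rw [map_add, map_add, add_mul, map_add, hs, ht, map_add, add_smul]

theorem antipode_right (u : R₀) :
    LinearMap.mul' k R₀ ((antiLin φ b).lTensor R₀ (Δ φ b u)) = algebraMap k R₀ (aug φ b u) := by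
  let F : R₀ →ₗ[k] R₀ := LinearMap.mul' k R₀ ∘ₗ (antiLin φ b).lTensor R₀ ∘ₗ (Δ φ b).toLinearMap
  suffices h : ∀ (a : 𝕌) (v : R₀), F (v * π φ b a) = aug φ b (π φ b a) • F v by
    obtain ⟨a, rfl⟩ := π_surjective φ b u
    have := h a 1
    rw [one_mul] at this
    show F (π φ b a) = _
    rw [this, Algebra.algebraMap_eq_smul_one]
    simp [F, Algebra.TensorProduct.one_def, antiLin_one]
  intro a
  obtain ⟨t, rfl⟩ : ∃ t, UniversalEnvelopingAlgebra.mkAlgHom k L t = a := Quotient.exists_rep a
  induction t using TensorAlgebra.induction with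
  | algebraMap r =>
    intro v
    simp [AlgHom.commutes, ← Algebra.commutes, ← Algebra.smul_def]
  | ι x =>
    intro v
    show F (v * gen φ b x) = aug φ b (gen φ b x) • F v
    rw [aug_gen, zero_smul]
    simp only [F, LinearMap.comp_apply, AlgHom.toLinearMap_apply, map_mul, Δ_gen]
    generalize Δ φ b v = z
    induction z using TensorProduct.induction_on with
    | zero => simp
    | add y z hy hz => rw [add_mul, map_add, map_add, hy, hz, add_zero]
    | tmul c d => simp [mul_add, antiLin_mul, antiLin_gen, mul_assoc]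
  | mul s t hs ht =>
    intro v
    rw [map_mul (UniversalEnvelopingAlgebra.mkAlgHom k L), map_mul (π φ b), ← mul_assoc, ht, hs, map_mul (aug φ b), smul_smul, mul_comm]
  | add s t hs ht => intro v; rw [map_add, map_add, mul_add, map_add, hs, ht, map_add, add_smul]

instance instHopf : HopfAlgebra k R₀ where
  antipode := antiLin φ b
  mul_antipode_rTensor_comul := LinearMap.ext (antipode_left φ b)
  mul_antipode_lTensor_comul := LinearMap.ext (antipode_right φ b)

/-! ### The basis -/

/-- Restricted multisets. -/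
abbrev Rst (p : ℕ) (ι : Type w) [LinearOrder ι] : Type w := {M : Multiset ι // ∀ i, M.count i < p}

instance [Fintype ι] : Finite (Rst p ι) :=
  Finite.of_injective (fun (M : Rst p ι) (i : ι) => (⟨M.1.count i, M.2 i⟩ : Fin p))
    fun M N h => Subtype.ext (Multiset.ext.2 fun i => congrArg Fin.val (congrFun h i))

theorem linearIndependent_Ew :
    LinearIndependent k (fun q : Rst p ι × Multiset ι => Ew φ b q.1.1 q.2) := by
  classical
  rw [linearIndependent_iff']
  intro s c hc
  by_contra hne
  push Not at hne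
  obtain ⟨q₁, hq₁, hcq₁⟩ := hne
  obtain ⟨q₀, hq₀, hmax⟩ := Finset.exists_max_image (s.filter fun q => c q ≠ 0)
    (fun q => Multiset.card (comb p q.1.1 q.2)) ⟨q₁, Finset.mem_filter.2 ⟨hq₁, hcq₁⟩⟩
  rw [Finset.mem_filter] at hq₀
  have hvan : ∀ (v : Poly k ι) (n : ℕ) (M : Multiset ι), v ∈ lowlt k ι n → n ≤ Multiset.card M → v M = 0 := by
    intro v n M hv hM
    by_contra hv0
    have : Multiset.card M < n := (Finsupp.mem_supported k v).1 hv (Finsupp.mem_support_iff.2 hv0)
    omega
  have hcoef := congrArg (fun u => toPoly b u (comb p q₀.1.1 q₀.2)) hc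
  simp only [map_sum, map_smul, map_zero, Finsupp.finsetSum_apply, Finsupp.smul_apply, smul_eq_mul,
    Finsupp.coe_zero, Pi.zero_apply] at hcoef
  rw [Finset.sum_eq_single q₀] at hcoef
  · have hl := hvan _ _ (comb p q₀.1.1 q₀.2) (lead_Ew φ b q₀.1.1 q₀.2) le_rfl
    rw [Finsupp.sub_apply, Finsupp.single_eq_same, sub_eq_zero] at hl
    rw [hl, mul_one] at hcoef
    exact hq₀.2 hcoef
  · intro q hq hne'
    by_cases hcq : c q = 0
    · rw [hcq, zero_mul]
    have hle := hmax q (Finset.mem_filter.2 ⟨hq, hcq⟩)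
    have hl := hvan _ _ (comb p q₀.1.1 q₀.2) (lead_Ew φ b q.1.1 q.2) hle
    rw [Finsupp.sub_apply, sub_eq_zero] at hl
    rw [hl, Finsupp.single_apply, if_neg, mul_zero]
    intro heq
    refine hne' ?_
    have hcount : ∀ i, q.1.1.count i = q₀.1.1.count i ∧ q.2.count i = q₀.2.count i := by
      intro i
      have := congrArg (Multiset.count i) heq
      simp only [comb, Multiset.count_add, Multiset.count_nsmul] at this
      have h1 := q.1.2 i
      have h0 := q₀.1.2 i
      have hr : q.1.1.count i = q₀.1.1.count i := by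
        have := congrArg (· % p) this
        simpa [Nat.mod_eq_of_lt h1, Nat.mod_eq_of_lt h0] using this
      refine ⟨hr, Nat.eq_of_mul_eq_mul_left (by omega : 0 < p) ?_⟩
      omega
    exact Prod.ext (Subtype.ext (Multiset.ext.2 fun i => (hcount i).1)) (Multiset.ext.2 fun i => (hcount i).2)
  · intro h; exact absurd hq₀.1 h

/-- The monomial in the restricted enveloping algebra. -/
def mono (M : Multiset ι) : R₀ := π φ b (word b M)

theorem Ew_cons_mem (r : Multiset ι) (i : ι) (Q : Multiset ι) : Ew φ b r (i ::ₘ Q) ∈ J φ b := by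
  have : Ew φ b r (i ::ₘ Q) = Ew φ b r Q * (zc φ b i : 𝕌) := by
    simp only [Ew, Multiset.map_cons, Multiset.prod_cons, Subalgebra.coe_mul]
    rw [mul_assoc]
    exact ((Subalgebra.mem_center_iff.1 (zc φ b i).2) _).symm
  rw [this]
  exact Ideal.mul_mem_left _ _ (Ideal.subset_span ⟨i, rfl⟩)

theorem span_mono [Fintype ι] :
    ⊤ ≤ Submodule.span k (Set.range fun M : Rst p ι => mono φ b M.1) := by
  classical
  rintro v -
  obtain ⟨a, rfl⟩ := π_surjective φ b v
  have ha : a ∈ (⊤ : Submodule k 𝕌) := trivial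
  rw [← span_Ew φ b] at ha
  induction ha using Submodule.span_induction with
  | mem y hy =>
    obtain ⟨⟨r, Q⟩, hr, rfl⟩ := hy
    rcases Q.empty_or_exists_mem with rfl | ⟨i, hi⟩
    · refine Submodule.subset_span ⟨⟨r, hr⟩, ?_⟩
      simp [mono, Ew]
    · obtain ⟨Q', rfl⟩ := Multiset.exists_cons_of_mem hi
      rw [show π φ b (Ew φ b r (i ::ₘ Q')) = 0 from Ideal.Quotient.eq_zero_iff_mem.2 (Ew_cons_mem φ b r i Q')]
      exact zero_mem _
  | zero => simp
  | add y z _ _ hy hz => rw [map_add]; exact add_mem hy hz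
  | smul a z _ hz => rw [map_smul]; exact Submodule.smul_mem _ a hz

theorem linearIndependent_mono [Fintype ι] :
    LinearIndependent k (fun M : Rst p ι => mono φ b M.1) := by
  classical
  let B : Module.Basis (Rst p ι × Multiset ι) k 𝕌 := Module.Basis.mk (linearIndependent_Ew φ b) (by
    rw [← span_Ew φ b]
    refine Submodule.span_mono ?_
    rintro _ ⟨⟨r, Q⟩, hr, rfl⟩
    exact ⟨(⟨r, hr⟩, Q), rfl⟩)
  have hB : ∀ q, B q = Ew φ b q.1.1 q.2 := fun q => Module.Basis.mk_apply _ _ _
  let g : 𝕌 →ₗ[k] (Rst p ι →₀ k) := B.constr k fun q => if q.2 = 0 then Finsupp.single q.1 1 else 0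
  have key : ∀ (i : ι) (r : 𝕌), g (r * (zc φ b i : 𝕌)) = 0 := by
    intro i
    have : g ∘ₗ LinearMap.mulRight k (zc φ b i : 𝕌) = 0 := by
      refine B.ext fun q => ?_
      have e : Ew φ b q.1.1 q.2 * (zc φ b i : 𝕌) = B (q.1, i ::ₘ q.2) := by
        rw [hB, ((Subalgebra.mem_center_iff.1 (zc φ b i).2) (Ew φ b q.1.1 q.2))]
        simp only [Ew, Multiset.map_cons, Multiset.prod_cons, Subalgebra.coe_mul, mul_assoc]
      simp only [LinearMap.comp_apply, LinearMap.mulRight_apply, LinearMap.zero_apply, hB, e]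
      rw [show Ew φ b q.1.1 (i ::ₘ q.2) = B (q.1, i ::ₘ q.2) from (hB (q.1, i ::ₘ q.2)).symm]
      simp [g]
    exact fun r => LinearMap.congr_fun this r
  have hg0 : ∀ a : 𝕌, a ∈ J φ b → g a = 0 := by
    intro a ha
    obtain ⟨c, rfl⟩ := (Submodule.mem_span_range_iff_exists_fun 𝕌).1 ha
    rw [map_sum]
    exact Finset.sum_eq_zero fun i _ => key i (c i)
  rw [linearIndependent_iff']
  intro s c hc i hi
  have h1 : π φ b (∑ M ∈ s, c M • word b M.1) = 0 := by
    rw [map_sum]
    simpa only [map_smul, mono] using hc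
  have h2 := hg0 _ (Ideal.Quotient.eq_zero_iff_mem.1 h1)
  have h3 : ∀ M : Rst p ι, g (word b M.1) = Finsupp.single M 1 := by
    intro M
    have e : word b M.1 = B (M, 0) := by rw [hB]; simp [Ew]
    rw [e]; simp [g]
  simp only [map_sum, map_smul, h3] at h2
  simpa [Finsupp.single_apply, hi] using congrArg (fun f : Rst p ι →₀ k => f i) h2

/-- The monomial basis. -/
def basis [Fintype ι] : Module.Basis (Rst p ι) k R₀ :=
  Module.Basis.mk (linearIndependent_mono φ b) (span_mono φ b)

theorem basis_apply [Fintype ι] (M : Rst p ι) : basis φ b M = mono φ b M.1 := Module.Basis.mk_apply _ _ _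

instance [Fintype ι] : Module.Finite k R₀ := Module.Finite.of_basis (basis φ b)

/-- The coproduct of a monomial. -/
theorem Δ_mono (M : Multiset ι) :
    Δ φ b (mono φ b M) = (M.antidiagonal.map fun q => mono φ b q.1 ⊗ₜ[k] mono φ b q.2).sum := by
  induction h : Multiset.card M generalizing M with
  | zero =>
    rw [Multiset.card_eq_zero.1 h]
    simp [mono, word_zero, Algebra.TensorProduct.one_def]
  | succ n ih =>
    have hne : M.toFinset.Nonempty := by
      obtain ⟨a, ha⟩ := Multiset.card_pos_iff_exists_mem.1 (by omega : 0 < Multiset.card M)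
      exact ⟨a, Multiset.mem_toFinset.2 ha⟩
    obtain ⟨l, U, rfl, hl⟩ : ∃ l U, M = l ::ₘ U ∧ ∀ y ∈ U, l ≤ y :=
      ⟨low M hne, M.erase (low M hne), (Multiset.cons_erase (low_mem M hne)).symm,
        fun y hy => low_le _ hne (Multiset.mem_of_mem_erase hy)⟩
    have hU := ih U (by simpa using h)
    have e : ∀ V : Multiset ι, V ≤ U → mono φ b (l ::ₘ V) = gen φ b (b l) * mono φ b V := by
      intro V hV
      simp only [mono]
      rw [word_cons b fun y hy => hl y (Multiset.mem_of_le hV hy), map_mul]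
      rfl
    rw [e U le_rfl, map_mul, Δ_gen, hU, Multiset.antidiagonal_cons, Multiset.map_add, Multiset.sum_add,
      Multiset.map_map, Multiset.map_map, ← Multiset.sum_map_mul_left, ← Multiset.sum_map_add]
    refine congrArg Multiset.sum (Multiset.map_congr rfl fun q hq => ?_)
    have hq' := Multiset.mem_antidiagonal.1 hq
    simp only [Function.comp_apply, Prod.map_fst, Prod.map_snd, id_eq]
    rw [e q.1 (hq' ▸ Multiset.le_add_right _ _), e q.2 (hq' ▸ Multiset.le_add_left _ _), add_mul,
      Algebra.TensorProduct.tmul_mul_tmul, Algebra.TensorProduct.tmul_mul_tmul, one_mul, one_mul, add_comm]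

end PLieLib.RH
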